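import Cfsg.Agent.Lib.Fi24Pres.Defs

/-!
Witnesses for walks between the cosets.
-/

set_option autoImplicit false
set_option linter.style.longLine false

namespace CfsgLib.Fi24Pres

/-- the fifth representative -/
def rho5 : List ℕ := [0, 1, 2, 3, 4, 5, 7, 3, 4, 8, 7, 3, 2, 1, 0, 10]
/-- target of the derived edge -/
def sigma7 : List ℕ := [10, 0, 1, 2, 3, 4, 5, 7, 3, 2, 4, 3, 7, 8, 7, 3, 2, 1, 4, 3, 5, 4, 7, 3, 0]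
/-- derived edge -/
def walk7 : List Wit := [
  ⟨4, [], 0, [1, 2, 3, 4, 5, 7, 3, 4, 8, 7, 3, 2, 1]⟩,
  ⟨5, [1, 2, 3, 4, 5, 7, 3, 4, 8, 7, 3, 2, 1, 0, 3, 7, 4, 5, 3, 4, 1, 2, 3, 7, 8, 7, 3, 4, 2, 3, 7, 5, 4, 3, 2, 1], 0, [1, 2, 3, 4, 5, 7, 3, 2, 4, 3, 7, 8, 7, 3, 2, 1, 4, 3, 5, 4, 7, 3]⟩]
/-- first part of the long relator -/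
def zHead : List ℕ := [3, 2, 1, 0, 11, 10, 3, 4, 5, 6, 9, 3, 7, 8, 3, 2, 1, 0, 11, 10, 3, 4, 5, 6, 9, 3, 7, 8, 3, 2, 1, 0, 11, 10, 3, 4, 5, 6, 9, 3, 7, 8, 3, 2, 1, 0, 11, 10, 3, 4, 5, 6, 9, 3, 7, 8, 3, 2, 1, 0, 11, 10, 3, 4, 5, 6, 9, 3, 7, 8, 3, 2, 1, 0, 11, 10, 3, 4, 5, 6, 9, 3, 7, 8, 3, 2, 1, 0, 11, 10, 3, 4, 5, 6, 9, 3, 7, 8, 3, 2, 1, 0]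
/-- second part, reversed -/
def zTail : List ℕ := [8, 7, 3, 9, 6, 5, 4, 3, 10, 11, 0, 1, 2, 3, 8, 7, 3, 9, 6, 5, 4, 3, 10, 11, 0, 1, 2, 3, 8, 7, 3, 9, 6, 5, 4, 3, 10, 11, 0, 1, 2, 3, 8, 7, 3, 9, 6, 5, 4, 3, 10, 11, 0, 1, 2, 3, 8, 7, 3, 9, 6, 5, 4, 3, 10, 11, 0, 1, 2, 3, 8, 7, 3, 9, 6, 5, 4, 3, 10, 11, 0, 1, 2, 3, 8, 7, 3, 9, 6, 5, 4, 3, 10, 11, 0, 1, 2, 3, 8, 7, 3, 9, 6, 5, 4, 3, 10, 11, 0, 1, 2, 3, 8, 7, 3, 9, 6, 5, 4, 3, 10, 11, 0, 1, 2, 3, 8, 7, 3, 9, 6, 5, 4, 3, 10, 11]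
/-- first part -/
def walkHead : List Wit := [
  ⟨0, [3, 2, 1, 0], 0, []⟩,
  ⟨4, [1, 3, 7, 4, 3, 7, 8, 5, 6, 9, 1, 2, 1], 0, []⟩,
  ⟨6, [10, 3, 4, 5, 6, 9, 3, 7, 8, 3, 2], 0, []⟩,
  ⟨6, [1, 0, 10, 3, 4, 5, 6, 9, 3, 7, 8, 3, 2, 1, 0, 1, 2, 0, 1], 0, [2, 1]⟩,
  ⟨5, [1, 0, 2, 1, 10, 3, 4, 5, 6, 9, 3, 7, 8, 3, 2, 1, 0, 9, 8, 3, 7, 6, 5, 4, 3, 2, 1], 0, [1, 2, 3, 4, 5, 6, 7, 3, 8, 9]⟩,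
  ⟨4, [8, 1, 9, 5, 7, 4, 3, 7, 8, 4, 6, 2, 3, 4, 1, 2, 9, 7, 3, 4, 7, 2, 1, 8, 3, 2, 7, 8, 3, 2, 4, 7, 3, 8, 1, 2, 1, 7, 4, 3, 2, 4, 7, 6, 3, 1, 2, 8, 2, 8, 3, 7, 1, 8, 2, 3, 7], 0, [1, 2, 3, 4, 7, 3, 2, 1, 8, 7, 3, 2, 4, 3, 5, 6]⟩,
  ⟨5, [1, 2, 3, 4, 7, 3, 2, 1, 8, 7, 3, 2, 4, 3, 5, 6, 10, 3, 4, 5, 6, 9, 3, 7, 8, 3, 2, 1, 0, 9, 3, 7, 5, 2, 3, 4, 1, 2, 3, 7, 8, 2, 3, 4, 1, 2, 3, 7, 6, 5, 4, 3, 2, 1], 0, [1, 2, 3, 4, 5, 6, 7, 3, 2, 1, 4, 3, 2, 8, 7, 3, 2, 1, 4, 3, 2, 5, 7, 3, 9]⟩]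
/-- second part -/
def walkTail : List Wit := [
  ⟨0, [8, 7, 3, 9, 6, 5, 4, 3, 10], 0, []⟩,
  ⟨4, [8, 9, 6, 5, 7], 0, [1, 2, 3, 4, 7, 3]⟩,
  ⟨6, [1, 2, 3, 4, 7, 3, 0, 1, 2, 3, 8, 7, 3, 9, 6, 5, 4, 3, 10, 8, 4, 3, 7, 5, 4, 3, 1, 2, 0, 1], 0, [2, 1, 3, 4, 5, 7, 3, 4, 8]⟩,
  ⟨6, [1, 0, 2, 1, 3, 4, 5, 7, 3, 4, 8, 0, 1, 2, 3, 8, 7, 3, 9, 6, 5, 4, 3, 10, 3, 7, 4, 5, 3, 4, 2, 3, 7, 6, 5, 4, 3, 2, 0, 1], 0, [2, 3, 4, 5, 6, 7, 3, 2, 4, 3, 5, 4, 7, 3]⟩,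
  ⟨5, [1, 0, 2, 3, 4, 5, 6, 7, 3, 2, 4, 3, 5, 4, 7, 3, 0, 1, 2, 3, 8, 7, 3, 9, 6, 5, 4, 3, 10, 4, 5, 6, 9, 3, 7, 8, 7, 4, 5, 3, 4, 1, 2, 3, 7, 6, 5, 4, 3, 2, 1], 0, [1, 2, 3, 4, 5, 6, 7, 3, 2, 1, 4, 3, 5, 4, 7, 8, 7, 3, 9, 6, 5, 4]⟩,
  ⟨4, [1, 7, 4, 8, 3, 7, 8, 4, 5, 4, 6, 3, 4, 7, 6, 9, 2, 3, 4, 1, 2, 9, 7, 3, 4, 7, 2, 1, 8, 1, 7, 5, 4, 3, 2, 1, 3, 7, 4, 3, 2, 3, 6, 5, 2, 3, 4, 7, 3, 1, 2, 3, 7, 4, 1, 3, 2, 7, 4, 3, 4, 7, 5, 6, 4, 5, 6, 3, 4, 3, 5, 9, 2, 3, 7, 8, 2, 1, 3, 6, 7, 4, 2, 3, 8, 7, 8, 4, 3, 2, 1, 3, 2, 6, 5, 4, 9, 3, 6, 5, 4, 9, 2, 3, 5, 7, 1, 9, 8, 3, 4, 7, 3, 2, 6, 1, 3, 2, 8, 7, 8, 4, 3, 2, 7, 2, 3, 4, 5, 1, 8, 2, 3, 4], 0, [1,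 2, 3, 4, 5, 6, 7, 3, 2, 1, 4, 3, 2, 5, 4, 7, 8, 7, 3, 2, 4, 3, 7, 9, 6, 5, 4, 3, 7]⟩,
  ⟨5, [1, 2, 3, 4, 5, 6, 7, 3, 2, 1, 4, 3, 2, 5, 4, 7, 8, 7, 3, 2, 4, 3, 7, 9, 6, 5, 4, 3, 7, 0, 1, 2, 3, 8, 7, 3, 9, 6, 5, 4, 3, 10, 2, 3, 4, 5, 6, 9, 4, 2, 3, 7, 4, 5, 2, 3, 4, 1, 2, 3, 7, 8, 5, 3, 4, 1, 2, 3, 7, 6, 5, 4, 3, 2, 1], 0, [1, 2, 3, 4, 5, 6, 7, 3, 2, 1, 4, 3, 5, 8, 7, 3, 2, 1, 4, 3, 2, 5, 4, 7, 3, 2, 4, 9, 6, 5, 4, 3, 2]⟩,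
  ⟨7, [8, 1, 9, 3, 2, 3, 4, 1, 2, 9, 7, 3, 4, 7, 2, 1, 8, 3, 2, 7, 4, 3, 7, 8, 4, 2, 3, 2, 7, 1, 5, 4, 3, 2, 1, 3, 7, 4, 3, 2, 4, 8, 7, 3, 8, 3, 7, 8, 4, 5, 7, 2, 3, 4, 7, 3, 1, 2, 3, 4, 5, 7, 1, 3, 2, 7, 8, 3, 7, 2, 8, 3, 7, 1, 8, 2, 3, 7], 0, [3, 2, 1, 4, 6, 5, 4, 3, 2, 7, 3, 2, 1, 4, 3, 2, 5, 4, 3, 8, 9, 6, 5, 4, 3, 2, 1, 7, 3, 4]⟩,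
  ⟨7, [8, 9, 7, 4, 8, 3, 7, 8, 4, 5, 4, 6, 3, 4, 7, 6, 9, 2, 3, 4, 1, 2, 9, 7, 3, 4, 7, 2, 1, 8, 1, 7, 5, 4, 3, 2, 1, 3, 7, 4, 3, 2, 5, 2, 7, 3, 7, 1, 2, 6, 3, 4, 5, 4, 3, 2, 1, 7, 3, 7, 2, 6, 4, 5, 6, 9, 1, 2, 6, 3, 4, 5, 2, 3, 4, 7, 3, 1, 2, 1, 7, 5, 3, 2, 4, 7, 3, 2, 5, 4, 9, 3, 6, 5, 4, 9, 6, 2, 3, 1, 5, 4, 7, 6, 3, 2, 1, 3, 7, 4, 3, 2, 9, 2, 3, 4, 1, 2, 9, 7, 3, 4, 7, 2, 1, 8, 3, 2, 6, 5, 9, 6, 9, 4, 3, 5, 7, 2, 1, 3, 2, 4, 6, 8, 2, 3, 4, 7, 2, 5, 3, 8, 6, 4, 3, 2, 8, 1, 7, 3, 8, 2, 7, 3, 5, 4, 6, 5, 6, 3, 4, 2, 3, 4, 7, 3, 1, 2, 3, 4, 5, 7, 1, 3, 2, 4, 2, 3, 6, 7, 4, 5, 2, 8, 3, 7, 1, 8], 0, [3, 2, 4, 3, 6, 5, 4, 3, 2, 7, 3, 2, 1, 4, 3,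 2, 5, 4, 6, 7, 3, 8, 7, 3, 9, 6, 5, 4, 3, 2, 7, 8]⟩,
  ⟨7, [8, 1, 5, 3, 7, 3, 4, 5, 3, 7, 2, 3, 4, 7, 3, 1, 2, 3, 7, 4, 1, 3, 2, 7, 3, 5, 4, 3, 7, 4, 5, 2, 6, 3, 4, 5, 2, 3, 4, 7, 3, 1, 2, 1, 7, 5, 3, 2, 4, 7, 3, 2, 5, 7, 3, 6, 4, 5, 3, 4, 5, 2, 3, 4, 7, 3, 1, 2, 3, 7, 4, 1, 3, 2, 6, 5, 6, 7, 4, 3, 7, 8, 4, 2, 3, 4, 7, 3, 1, 2, 3, 6, 7, 4, 5, 1, 3, 2, 4, 7, 5, 6, 2, 6, 3, 4, 7, 8, 2, 3, 5, 4, 3, 2, 3, 4, 2, 8, 5, 6, 7, 8, 9, 2, 3, 5, 7, 9, 4, 3, 8, 2], 0, [3, 2, 4, 6, 5, 4, 3, 2, 1, 7, 3, 2, 1, 4, 3, 2, 5, 6, 7, 8, 7, 3, 4, 9, 6, 5, 4, 3, 2, 1, 7, 3]⟩]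
/-- the third stabiliser element -/
def tauW : List ℕ := [10, 0, 1, 2, 3, 4, 5, 6, 7, 3, 2, 1, 4, 3, 2, 8, 7, 3, 2, 1, 4, 3, 2, 5, 7, 3, 9, 10, 3, 4, 5, 6, 9, 3, 7, 8, 3, 2, 1, 0, 3, 7, 1, 2, 3, 4, 5, 6, 9, 4, 3, 7, 8, 7, 6, 5, 2, 3, 4, 1, 2, 3, 7, 1, 2, 3, 4, 5, 6, 4, 2, 3, 0, 3, 7, 4, 5, 3, 4, 1, 2, 3, 7, 8, 7, 3, 4, 2, 3, 7, 5, 4, 3, 2, 1, 0, 10]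
/-- representatives of the stabiliser modulo the known part -/
def transW : List (List ℕ) := [[], tauW, tauW ++ [1]]
/-- a representative -/
def rho8 : List ℕ := [1, 2, 3, 4, 5, 6, 7, 3, 2, 1, 4, 3, 5, 8, 7, 3, 2, 1, 4, 3, 2, 5, 4, 7, 3, 8, 7, 9, 6, 5, 4, 3, 2, 1, 0]
/-- target -/
def sigma8 : List ℕ := [1, 2, 3, 4, 5, 6, 7, 3, 2, 1, 4, 3, 5, 8, 7, 3, 2, 1, 4, 3, 2, 5, 4, 7, 3, 8, 7, 9, 6, 5, 4, 3, 2, 1, 0]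
/-- derived edge -/
def walk8 : List Wit := [
  ⟨5, [], 0, [1, 2, 3, 4, 5, 6, 7, 3, 2, 1, 4, 3, 5, 8, 7, 3, 2, 1, 4, 3, 2, 5, 4, 7, 3, 8, 7, 9, 6, 5, 4, 3, 2, 1]⟩,
  ⟨4, [6, 5, 7, 4, 3, 7, 8, 4, 2, 3, 4, 7, 3, 1, 2, 3, 6, 7, 4, 5, 1, 3, 2, 6, 4, 3, 5, 7, 6, 2, 9, 4, 1, 3, 2, 5, 9, 7, 3, 4, 3, 2, 1, 7, 3, 7, 2, 5, 4, 6, 5, 6, 3, 4, 6, 2, 3, 4, 7, 3, 1, 2, 3, 7, 4, 8, 2, 5, 1, 2, 3, 1, 2, 4, 3, 2, 3, 4, 5, 1, 8, 2, 3, 4], 1, [1, 2, 3, 4, 5, 6, 7, 3, 2, 1, 4, 3, 5, 8, 7, 3, 2, 1, 4, 3, 2, 5, 4, 7, 3, 8, 7, 9, 6, 5, 4, 3, 2, 1]⟩]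
/-- target state -/
def target8 : ℕ := 2

end CfsgLib.Fi24Pres
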