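import Cfsg.Agent.Lib.Fi24Pres.Coset
import Cfsg.Agent.Lib.Fi24Pres.DataWalks
import Cfsg.Agent.Lib.Fi24Pres.DataCA
import Cfsg.Agent.Lib.Fi24Pres.DataCover
import Cfsg.Agent.Lib.CosetEnum.Chunks

/-!
The checks of the covering of Fi23 × 2 by the double cosets at the second coset.
-/

set_option autoImplicit false

namespace CfsgLib.Fi24Pres

open CfsgLib.CosetEnum

/-- representatives of the double cosets -/
def reps : List (List ℕ) := [[], [10], [0], [10, 0], rho5]

/-- the check of a decomposition -/
noncomputable def decOK (h : List ℕ) (d : Wit) : Bool :=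
  Nat.blt d.id reps.length && rightOK d.u && stabOK transW 1 d.st d.cls &&
    eqK h (stabW transW 1 d.st d.cls ++ (reps.getD d.id [] ++ d.u))

/-- the check of the generators of an intersection -/
noncomputable def genOK (r : List ℕ) (c : CovGen) : Bool :=
  rightOK c.w && stabOK transW 1 c.st c.cls &&
    eqK (r ++ c.w) (stabW transW 1 c.st c.cls ++ r)

/-- the check of one orbit -/
noncomputable def orbOK (r : List ℕ) (gens : List (List ℕ)) (o : CovOrb) : Bool :=
  rightOK o.v && decOK (r ++ o.v ++ [0]) o.dec &&
    (match reach Fi23Pres.certA gens o.tree (2 ^ Fi23Pres.certA.run pointA o.v.reverse) with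
      | some m => Nat.beq m o.mask
      | none => false)

/-- the union of the orbits -/
def unionMask : List CovOrb → ℕ
  | [] => 0
  | o :: os => o.mask ||| unionMask os

/-- the check of a cover -/
noncomputable def coverOK (r : List ℕ) (c : Cover) : Bool :=
  (c.gens.all fun g => genOK r g) && (c.orbs.all fun o => orbOK r (c.gens.map CovGen.w) o) &&
    Nat.beq (unionMask c.orbs) orbMask

/-- closed under the letters one to nine -/
noncomputable def upClosed (m x : ℕ) : Bool :=
  strict x fun x => pick (Nat.testBit m x && ltB x Fi23Pres.certA.N)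
    ([1, 2, 3, 4, 5, 6, 7, 8, 9].all fun g => Nat.testBit m (Fi23Pres.certA.run x [g])) true

end CfsgLib.Fi24Pres
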