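import Cfsg.Agent.Lib.Fi24Pres.Coset
import Cfsg.Agent.Lib.Fi24Pres.DataWalks
import Cfsg.Agent.Lib.Fi24Pres.DataU0
import Cfsg.Agent.Lib.Fi24Pres.CoverDefs
import Cfsg.Agent.Lib.Fi23Pres.CheckA

/-!
Kernel checks for the double cosets at the third coset and for the order of the stabiliser of the
second coset.
-/

set_option autoImplicit false

namespace CfsgLib.Fi24Pres

open CfsgLib.CosetEnum

/-- the letters commuting with `k`, as words -/
def rightGens : List (List ℕ) := [[1], [2], [3], [4], [5], [6], [7], [8], [9]]

/-- representatives of the double cosets at the third coset -/
def repsTwo : List (List ℕ) := [[], [1, 0], rho8]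

/-- their orbits -/
def masksTwo : List ℕ := [orbMask, orbSmallMask, orbMidMask]

/-- their trees -/
def treesTwo : List (List (ℕ × ℕ)) := [orbTree, orbSmallTree, orbMidTree]

/-- one orbit at the third coset -/
noncomputable def twoOK (i : ℕ) : Bool :=
  ltAll 11 (repsTwo.getD i []) &&
    (match reach Fi23Pres.certA rightGens (treesTwo.getD i [])
        (2 ^ Fi23Pres.certA.run pointA (strip (repsTwo.getD i []))) with
      | some m => Nat.beq m (masksTwo.getD i 0)
      | none => false)

/-- every point is in one of the three orbits -/
noncomputable def someMask (x : ℕ) : Bool :=
  strict x fun x => pick (ltB x Fi23Pres.certA.N)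
    (Nat.testBit (orbMask ||| orbSmallMask ||| orbMidMask) x) true

theorem two_ok : ((List.range repsTwo.length).all twoOK) = true := by decide +kernel

theorem two_all : allUp someMask 15 0 = true := by decide +kernel

theorem levelsU_ok : chainOK Fi23Pres.certA levelsU = true := by decide +kernel

theorem levelsU_size : chainSize Fi23Pres.certA levelsU = 9904359628800 := by decide +kernel

theorem levelsU_right : ((chainWords levelsU).all rightOK) = true := by decide +kernel

theorem levelU_closed : allUp (upClosed levelsULevel0.mask) 15 0 = true := by decide +kernel

/-- the three representatives are in different cosets of the known part -/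
noncomputable def sepOK (i j : ℕ) : Bool :=
  Nat.beq i j ||
    (Nat.testBit levelsULevel0.mask levelsULevel0.base &&
      !Nat.testBit levelsULevel0.mask (Fi23Pres.certA.run levelsULevel0.base
        (strip (transW.getD i [] ++ (transW.getD j []).reverse))))

theorem trans_sep : ((List.range transW.length).all fun i =>
    (List.range transW.length).all (sepOK i)) = true := by decide +kernel

end CfsgLib.Fi24Pres
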