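import Cfsg.Agent.Lib.Fi24Pres.Cover
import Cfsg.Agent.Lib.Fi24Pres.ChkIndex

/-!
The cosets of `Fi23 × 2` in the presented Fi24 number at most `1 + 275264 + 31671`.
-/

set_option autoImplicit false

namespace CfsgLib.Fi24Pres

open CfsgLib.CosetEnum Cfsg.Spor

theorem psiK_mem (x : K) : psiK x ∈ subH := by
  have hx : x ∈ Subgroup.closure {y : K | ∃ g < 11, genK g = y} := by rw [gen_K_top]; trivial
  induction hx using Subgroup.closure_induction with
  | mem y hy =>
    obtain ⟨g, hg, rfl⟩ := hy
    rw [psiK_genK hg]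
    exact Subgroup.subset_closure ⟨g, hg, rfl⟩
  | one => rw [map_one]; exact one_mem _
  | mul a b _ _ ha hb => rw [map_mul]; exact mul_mem ha hb
  | inv a _ ha => rw [map_inv]; exact inv_mem ha

theorem subH_eq : subH = psiK.range := by
  refine le_antisymm ((Subgroup.closure_le _).mpr ?_) ?_
  · rintro y ⟨g, hg, rfl⟩
    exact ⟨genK g, psiK_genK hg⟩
  · rintro y ⟨x, rfl⟩
    exact psiK_mem x

theorem right_commute {u : K} (hu : u ∈ subRight) : Commute (gen 11) (psiK u) := by
  induction hu using Subgroup.closure_induction with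
  | mem y hy =>
    obtain ⟨g, h1, h10, rfl⟩ := hy
    have hadj : ∀ g < 10, 1 ≤ g → adjB 11 g = false := by decide +kernel
    rw [psiK_genK (by omega)]
    exact cox.comm 11 (by norm_num) g (by omega) (hadj g h10 h1)
  | one => rw [map_one]; exact Commute.one_right _
  | mul a b _ _ ha hb => rw [map_mul]; exact ha.mul_right hb
  | inv a _ ha => rw [map_inv]; exact ha.inv_right

/-- the group element of a state -/
noncomputable def stP (s : ℕ) : Fi24 := prodW gen (stW s)

theorem stP_zero : stP 0 = 1 := by simp [stP, stW]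

theorem stP_one : stP 1 = gen 11 := by simp [stP, stW]

/-- an element lies in one of the three classes of cosets -/
def InClasses (g : Fi24) : Prop :=
  ∃ s < 3, ∃ x : K, g * (stP s * psiK x)⁻¹ ∈ subH

/-- one step along `k` -/
theorem step_classes {f : Fact} (hf : f.Holds) (hft : f.t < 3) (hr : ∀ g ∈ f.rho, g < 11)
    (hs : ∀ g ∈ f.sigma, g < 11) {x s0 u : K}
    (hx : x = s0 * prodW genK f.rho * u) (h0 : stP f.s * psiK s0 * (stP f.s)⁻¹ ∈ subH)
    (hu : u ∈ subRight) {g : Fi24} (hg : g * (stP f.s * psiK x)⁻¹ ∈ subH) :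
    InClasses (g * gen 11) := by
  refine ⟨f.t, hft, prodW genK f.sigma * u, ?_⟩
  have hf' : stP f.s * prodW gen f.rho * gen 11 * (stP f.t * prodW gen f.sigma)⁻¹ ∈ subH := by
    have h := hf
    simp only [Fact.Holds, Sm, prodW_append, prodW_cons, prodW_nil, mul_one] at h
    exact h
  have e : g * gen 11 * (stP f.t * psiK (prodW genK f.sigma * u))⁻¹ =
      (g * (stP f.s * psiK x)⁻¹) * (stP f.s * psiK s0 * (stP f.s)⁻¹) *
        (stP f.s * prodW gen f.rho * gen 11 * (stP f.t * prodW gen f.sigma)⁻¹) := by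
    rw [hx, map_mul, map_mul, map_mul, psiK_word hr, psiK_word hs]
    have hc : psiK u * gen 11 = gen 11 * psiK u := (right_commute hu).eq.symm
    have hc' : (psiK u)⁻¹ * gen 11 * psiK u = gen 11 := by
      rw [mul_assoc, ← hc, inv_mul_cancel_left]
    calc g * gen 11 * (stP f.t * (prodW gen f.sigma * psiK u))⁻¹
        = g * (gen 11 * (psiK u)⁻¹) * ((prodW gen f.sigma)⁻¹ * (stP f.t)⁻¹) := by
          simp only [mul_inv_rev, mul_assoc]
      _ = g * ((psiK u)⁻¹ * gen 11) * ((prodW gen f.sigma)⁻¹ * (stP f.t)⁻¹) := by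
          rw [((right_commute hu).inv_right).eq]
      _ = _ := by group
  rw [e]
  exact mul_mem (mul_mem hg h0) hf'

theorem fact_list {f : Fact} (hf : f ∈ facts7 ++ [fact8]) : f.Holds := by
  rcases List.mem_append.mp hf with h | h
  · exact facts7_holds f h
  · rw [List.mem_singleton.mp h]; exact fact8_holds

/-- the edges, with their words checked -/
noncomputable def edgesOK : Bool :=
  (facts7 ++ [fact8]).all fun f => Nat.blt f.t 3 && ltAll 11 f.rho && ltAll 11 f.sigma

theorem edges_ok : edgesOK = true := by decide +kernel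

theorem edge_step {f : Fact} (hf : f ∈ facts7 ++ [fact8]) {x s0 u : K}
    (hx : x = s0 * prodW genK f.rho * u) (h0 : stP f.s * psiK s0 * (stP f.s)⁻¹ ∈ subH)
    (hu : u ∈ subRight) {g : Fi24} (hg : g * (stP f.s * psiK x)⁻¹ ∈ subH) :
    InClasses (g * gen 11) := by
  have h := edges_ok
  simp only [edgesOK, List.all_eq_true, Bool.and_eq_true, Nat.blt_eq] at h
  obtain ⟨⟨ht, hr⟩, hs⟩ := h f hf
  exact step_classes (fact_list hf) ht (ltAll_iff.mp hr) (ltAll_iff.mp hs) hx h0 hu hg

/-- every element of the cover splits at the fixed point -/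
theorem covered_two_fix (x : K) : ∃ i < repsTwo.length, ∃ s0 : K, s0.1 ∈ fixA ∧ ∃ u ∈ subRight,
    x = s0 * prodW genK (repsTwo.getD i []) * u := by
  set p : Fin Fi23Pres.certA.N := Fi23Pres.rho (x.1)⁻¹ ptA with hp
  have hall := allUp_spec two_all p (Nat.zero_le _) (by
    have := p.2
    have e : Fi23Pres.certA.N = 31671 := rfl
    omega)
  unfold someMask at hall
  simp only [strict_eq, ltB_iff.mpr p.2, pick_true, Nat.testBit_or, Bool.or_eq_true] at hall
  obtain ⟨i, hi, hbit⟩ : ∃ i < 3, (masksTwo.getD i 0).testBit (p : ℕ) = true := by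
    rcases hall with (h | h) | h
    · exact ⟨0, by norm_num, h⟩
    · exact ⟨1, by norm_num, h⟩
    · exact ⟨2, by norm_num, h⟩
  refine ⟨i, hi, ?_⟩
  have h := two_ok
  simp only [List.all_eq_true, List.mem_range] at h
  have h1 := h i hi
  simp only [twoOK, Bool.and_eq_true] at h1
  obtain ⟨-, htree⟩ := h1
  set r := repsTwo.getD i [] with hr
  set q : Fin Fi23Pres.certA.N := Fi23Pres.rho ((prodW genK r).1)⁻¹ ptA with hq
  have hqv : (q : ℕ) = Fi23Pres.certA.run pointA (strip r) := by
    have e : ((prodW genK r).1)⁻¹ = prodW Fi23Pres.gen (strip r).reverse := by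
      rw [← revInv_eq_reverse (fun g hg => strip_lt r g hg), Fi23Pres.setupA.model.revInv_eq,
        prodW_genK]
    rw [hq, e, Fi23Pres.setupA.rho_prodW (fun g hg => strip_lt r g (List.mem_reverse.mp hg)),
      revInv_eq_reverse (fun g hg => strip_lt r g (List.mem_reverse.mp hg)), List.reverse_reverse]
    rfl
  obtain ⟨u, hu, hup⟩ : ∃ u ∈ subRight, Fi23Pres.rho u.1 q = p := by
    cases hreach : reach Fi23Pres.certA rightGens (treesTwo.getD i [])
        (2 ^ Fi23Pres.certA.run pointA (strip r)) with
    | none => rw [hreach] at htree; simp at htree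
    | some m =>
      rw [hreach] at htree
      obtain rfl := Nat.eq_of_beq_eq_true htree
      obtain ⟨hb, u, hu, e⟩ := reach_spec
        (P := fun y => ∃ hy : y < Fi23Pres.certA.N, ∃ u ∈ subRight,
          Fi23Pres.rho u.1 q = (⟨y, hy⟩ : Fin Fi23Pres.certA.N))
        (fun y j hj ⟨hy, u, hu, e⟩ => by
          have hgood : ∀ w ∈ rightGens, rightOK w = true := by decide +kernel
          have hw : rightGens.getD j [] ∈ rightGens := by
            rw [List.getD_eq_getElem _ _ hj]; exact List.getElem_mem hj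
          obtain ⟨hlt, -⟩ := rightOK_spec (hgood _ hw)
          have ha := rho_word hlt ⟨y, hy⟩
          rw [← revInv_eq_reverse hlt] at ha
          refine ⟨ha ▸ Fin.isLt _, prodW genK (rightGens.getD j []) * u,
            mul_mem (right_mem (hgood _ hw)) hu, ?_⟩
          rw [Prod.fst_mul, map_mul, Equiv.Perm.mul_apply, e]
          exact Fin.ext ha)
        _ _ _ hreach (fun y hy => by
          rw [Nat.testBit_two_pow, decide_eq_true_eq] at hy
          refine ⟨hy ▸ hqv ▸ Fin.isLt _, 1, one_mem _, Fin.ext ?_⟩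
          simpa using hqv.trans hy) _ hbit
      exact ⟨u, hu, e⟩
  refine ⟨x * u * (prodW genK r)⁻¹, ?_, u⁻¹, inv_mem hu, by group⟩
  rw [mem_fixA, Prod.fst_mul, Prod.fst_mul, Prod.fst_inv, map_mul, map_mul,
    Equiv.Perm.mul_apply, Equiv.Perm.mul_apply, ← hq, hup, hp, map_inv, Equiv.Perm.inv_def,
    Equiv.apply_symm_apply]

/-- every element of the cover splits at the third coset -/
theorem covered_two (x : K) : ∃ i < repsTwo.length, ∃ s0 ∈ subTwoK, ∃ u ∈ subRight,
    x = s0 * prodW genK (repsTwo.getD i []) * u := by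
  obtain ⟨i, hi, s0, h0, h⟩ := covered_two_fix x
  exact ⟨i, hi, s0, mem_twoK_of_fix h0, h⟩

theorem gen_top : Subgroup.closure {y : Fi24 | ∃ g < 12, gen g = y} = ⊤ := by
  refine eq_top_iff.mpr (le_of_eq_of_le (PresentedGroup.closure_range_of
    (coxRelators Fi24.edges ∪ {r | r ∈ Fi24.extra})).symm ((Subgroup.closure_le _).mpr ?_))
  rintro y ⟨x, rfl⟩
  obtain ⟨i, hi, rfl⟩ := List.getElem_of_mem (mem_letters x)
  exact Subgroup.subset_closure ⟨i, hi, by rw [gen, presGen, genOf_of_lt hi]⟩

theorem classes_right {g : Fi24} (h : InClasses g) {j : ℕ} (hj : j < 12) :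
    InClasses (g * gen j) := by
  obtain ⟨s, hs, x, hg⟩ := h
  rcases Nat.lt_or_ge j 11 with hj' | hj'
  · refine ⟨s, hs, x * genK j, ?_⟩
    rw [map_mul, psiK_genK hj', mul_inv_rev, mul_inv_rev]
    rw [mul_inv_rev] at hg
    simpa [mul_assoc] using hg
  obtain rfl : j = 11 := by omega
  interval_cases s
  · refine ⟨1, by norm_num, 1, ?_⟩
    rw [map_one, mul_one, stP_one, mul_inv_cancel_right]
    rw [stP_zero, one_mul] at hg
    simpa using mul_mem hg (psiK_mem x)
  · obtain ⟨i, hi, s0, hs0, u, hu, hx⟩ := covered_all x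
    have h0 : stP 1 * psiK s0 * (stP 1)⁻¹ ∈ subH := by
      rw [stP_one]
      exact hs0
    have hi5 : i < 5 := hi
    interval_cases i
    · exact edge_step (f := ⟨1, [], 0, []⟩) (by simp [facts7, baseFacts]) hx h0 hu hg
    · exact edge_step (f := ⟨1, [10], 1, [10]⟩) (by simp [facts7, baseFacts]) hx h0 hu hg
    · exact edge_step (f := ⟨1, [0], 1, [0]⟩) (by simp [facts7, baseFacts]) hx h0 hu hg
    · exact edge_step (f := ⟨1, [10, 0], 2, []⟩) (by simp [facts7, baseFacts]) hx h0 hu hg
    · exact edge_step (f := fact7) (by simp [facts7]) hx h0 hu hg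
  · obtain ⟨i, hi, s0, hs0, u, hu, hx⟩ := covered_two x
    have h0 : stP 2 * psiK s0 * (stP 2)⁻¹ ∈ subH := hs0
    have hi3 : i < 3 := hi
    interval_cases i
    · exact edge_step (f := ⟨2, [], 1, [10, 0]⟩) (by simp [facts7, baseFacts]) hx h0 hu hg
    · exact edge_step (f := ⟨2, [1, 0], 2, [1, 0]⟩) (by simp [facts7, baseFacts]) hx h0 hu hg
    · exact edge_step (f := fact8) (by simp [facts7]) hx h0 hu hg

theorem classes_all (g : Fi24) : InClasses g := by
  have hg : g ∈ Subgroup.closure {y : Fi24 | ∃ g < 12, gen g = y} := by rw [gen_top]; trivial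
  induction hg using Subgroup.closure_induction_right with
  | one => exact ⟨0, by norm_num, 1, by simp [stP_zero]⟩
  | mul_right x _ y hy ih =>
    obtain ⟨j, hj, rfl⟩ := hy
    exact classes_right ih hj
  | mul_inv_cancel x _ y hy ih =>
    obtain ⟨j, hj, rfl⟩ := hy
    rw [prodW_self_inv gen_sq j]
    exact classes_right ih hj

theorem trans_subOne (i : Fin 3) : prodW genK (transW.getD i []) ∈ subOne := by
  have hmem : transW.getD i [] ∈ transW := by
    have hl : (i : ℕ) < transW.length := i.2
    rw [List.getD_eq_getElem _ _ hl]; exact List.getElem_mem hl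
  exact word_subOne (stabGood_trans.lt _ hmem) (stabGood_trans.one _ hmem)

theorem right_le : subRight ≤ subOne := by
  intro u hu
  show gen 11 * psiK u * (gen 11)⁻¹ ∈ subH
  rw [(right_commute hu).eq, mul_inv_cancel_right]
  exact psiK_mem u

theorem right_card : 9904359628800 ≤ Nat.card subRight := by
  have hle : chainGroup Fi23Pres.setupA.complete Fi23Pres.setupA.action levelsU ≤
      (subRight.map (MonoidHom.fst Fi23 (Multiplicative (ZMod 2)))).map Fi23Pres.rho := by
    refine (Subgroup.closure_le _).mpr ?_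
    rintro y ⟨w, hw, rfl⟩
    have h := levelsU_right
    simp only [List.all_eq_true] at h
    refine ⟨prodW Fi23Pres.gen w, ⟨prodW genK w, right_mem (h w hw), fst_prodW w⟩, ?_⟩
    rw [map_prodW]
    exact prodW_congr fun g hg => Fi23Pres.setupA.rho_gen g (chainWords_lt levelsU_ok w hw g hg)
  rw [← levelsU_size]
  exact (((chainSize_le Fi23Pres.setupA.complete Fi23Pres.setupA.action levelsU_ok).trans
    (Subgroup.card_le_of_le hle)).trans
    (Nat.card_le_card_of_surjective _ (Fi23Pres.rho.subgroupMap_surjective _))).trans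
    (Nat.card_le_card_of_surjective _ ((MonoidHom.fst Fi23 _).subgroupMap_surjective subRight))

theorem trans_separated {i j : Fin 3}
    (h : prodW genK (transW.getD i []) * (prodW genK (transW.getD j []))⁻¹ ∈ subRight) : i = j := by
  by_contra hne
  have hs := trans_sep
  simp only [List.all_eq_true, List.mem_range] at hs
  have h1 := hs i i.2 j j.2
  rw [sepOK, show Nat.beq (i : ℕ) j = false by
    rw [Bool.eq_false_iff]
    exact fun e => hne (Fin.ext (Nat.eq_of_beq_eq_true e)), Bool.false_or, Bool.and_eq_true,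
    Bool.not_eq_true'] at h1
  set b := levelsULevel0.base with hb
  have hbN : b < Fi23Pres.certA.N := by decide +kernel
  set w := strip (transW.getD i [] ++ (transW.getD j []).reverse) with hw
  have hlt : ∀ g ∈ w, g < 10 := strip_lt _
  have e : ((prodW genK (transW.getD i []) * (prodW genK (transW.getD j []))⁻¹)⁻¹).1 =
      prodW Fi23Pres.gen w.reverse := by
    have hr : ∀ v : List ℕ, prodW genK v.reverse = (prodW genK v)⁻¹ := by
      intro v
      have hsq : ∀ g, genK g * genK g = 1 := fun g => Prod.ext (Fi23Pres.gen_sq g)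
        (show Multiplicative.ofAdd (1 : ZMod 2) * Multiplicative.ofAdd 1 = 1 by decide)
      induction v with
      | nil => simp
      | cons g v ih =>
        rw [List.reverse_cons, prodW_append, ih, prodW_cons, prodW_cons, prodW_nil, mul_one,
          mul_inv_rev, prodW_self_inv hsq g]
    rw [← hr (transW.getD j []), ← prodW_append, prodW_genK, ← hw,
      ← revInv_eq_reverse hlt, Fi23Pres.setupA.model.revInv_eq]
    rfl
  have hm := right_orbit levelU_closed (inv_mem h) ⟨b, hbN⟩ h1.1
  rw [e, Fi23Pres.setupA.rho_prodW (fun g hg => hlt g (List.mem_reverse.mp hg)),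
    revInv_eq_reverse (fun g hg => hlt g (List.mem_reverse.mp hg)), List.reverse_reverse] at hm
  rw [hm] at h1
  exact absurd h1.2 (by decide)

theorem card_K : Nat.card K = 8178940946586009600 := by
  rw [Nat.card_prod, Fi23Pres.card_faithful.1, Nat.card_eq_fintype_card,
    Fintype.card_multiplicative, ZMod.card]

theorem subOne_index : subOne.index ≤ 275264 := by
  have h1 : 3 * 9904359628800 ≤ Nat.card subOne := by
    let φ : Fin 3 × subRight → subOne := fun p =>
      ⟨p.2.1 * prodW genK (transW.getD p.1 []), mul_mem (right_le p.2.2) (trans_subOne p.1)⟩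
    have hφ : Function.Injective φ := by
      rintro ⟨i, u⟩ ⟨j, v⟩ e
      have e' := congrArg Subtype.val e
      simp only [φ] at e'
      obtain rfl : i = j := trans_separated (by
        rw [show prodW genK (transW.getD i []) * (prodW genK (transW.getD j []))⁻¹ =
          (u : K)⁻¹ * v by
            rw [mul_inv_eq_iff_eq_mul, mul_assoc, ← e', inv_mul_cancel_left]]
        exact mul_mem (inv_mem u.2) v.2)
      rw [mul_left_inj] at e'
      rw [Subtype.ext e']
    have h := Nat.card_le_card_of_injective φ hφ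
    rw [Nat.card_prod, Nat.card_fin] at h
    exact le_trans (Nat.mul_le_mul_left 3 right_card) h
  have h2 := subOne.card_mul_index
  rw [card_K] at h2
  refine Nat.le_of_mul_le_mul_left ?_ (show 0 < 3 * 9904359628800 by norm_num)
  calc 3 * 9904359628800 * subOne.index ≤ Nat.card subOne * subOne.index :=
        Nat.mul_le_mul_right _ h1
    _ = 8178940946586009600 := h2
    _ ≤ 3 * 9904359628800 * 275264 := by norm_num

theorem subTwoK_index : subTwoK.index ≤ 31671 := by
  have h1 : 258247006617600 ≤ Nat.card subTwoK := by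
    let φ : fixA × Multiplicative (ZMod 2) → subTwoK := fun p =>
      ⟨(p.1.1, p.2), mem_twoK_of_fix p.1.2⟩
    have hφ : Function.Injective φ := by
      rintro ⟨y, a⟩ ⟨z, b⟩ e
      have e' := congrArg Subtype.val e
      simp only [φ, Prod.mk.injEq] at e'
      rw [Subtype.ext e'.1, e'.2]
    have h := Nat.card_le_card_of_injective φ hφ
    rw [Nat.card_prod, card_fixA, Nat.card_eq_fintype_card, Fintype.card_multiplicative,
      ZMod.card] at h
    exact le_trans (by norm_num) h
  have h2 := subTwoK.card_mul_index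
  rw [card_K] at h2
  refine Nat.le_of_mul_le_mul_left ?_ (show 0 < 258247006617600 by norm_num)
  calc 258247006617600 * subTwoK.index ≤ Nat.card subTwoK * subTwoK.index :=
        Nat.mul_le_mul_right _ h1
    _ = 8178940946586009600 := h2
    _ ≤ 258247006617600 * 31671 := by norm_num

theorem exists_out {S : Subgroup K} (x : K) :
    ∃ q : K ⧸ S, ∃ s ∈ S, x = s * (Quotient.out q)⁻¹ := by
  obtain ⟨h, e⟩ := QuotientGroup.mk_out_eq_mul S x⁻¹
  refine ⟨(x⁻¹ : K), h, h.2, ?_⟩
  rw [e, mul_inv_rev, inv_inv, mul_inv_cancel_left]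

/-- The presented Fi24 is finite with at most twice the order of the derived group. -/
theorem finite_card : Finite Fi24 ∧ Nat.card Fi24 ≤ 2510411418381323442585600 := by
  have : Finite K := inferInstance
  have hfin : Finite subH := by
    rw [subH_eq]; exact Finite.of_surjective _ psiK.rangeRestrict_surjective
  let T := Option ((K ⧸ subOne) ⊕ (K ⧸ subTwoK))
  let φ : subH × T → Fi24 := fun p => p.1.1 * p.2.elim 1
    (Sum.elim (fun q => stP 1 * psiK (Quotient.out q)⁻¹) fun q => stP 2 * psiK (Quotient.out q)⁻¹)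
  have hφ : Function.Surjective φ := by
    intro g
    obtain ⟨s, hs, x, hg⟩ := classes_all g
    interval_cases s
    · rw [stP_zero, one_mul] at hg
      exact ⟨(⟨g, by simpa using mul_mem hg (psiK_mem x)⟩, none), by simp [φ]⟩
    · obtain ⟨q, s0, hs0, hx⟩ := exists_out (S := subOne) x
      have h0 : stP 1 * psiK s0 * (stP 1)⁻¹ ∈ subH := by rw [stP_one]; exact hs0
      refine ⟨(⟨_, mul_mem hg h0⟩, some (.inl q)), ?_⟩
      simp only [φ, Option.elim, Sum.elim_inl, hx, map_mul]
      group
    · obtain ⟨q, s0, hs0, hx⟩ := exists_out (S := subTwoK) x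
      have h0 : stP 2 * psiK s0 * (stP 2)⁻¹ ∈ subH := hs0
      refine ⟨(⟨_, mul_mem hg h0⟩, some (.inr q)), ?_⟩
      simp only [φ, Option.elim, Sum.elim_inr, hx, map_mul]
      group
  have : Finite T := inferInstanceAs (Finite (Option _))
  refine ⟨Finite.of_surjective φ hφ, (Nat.card_le_card_of_surjective φ hφ).trans ?_⟩
  rw [Nat.card_prod]
  have hH : Nat.card subH ≤ 8178940946586009600 := by
    rw [← card_K, subH_eq]
    exact Nat.card_le_card_of_surjective _ psiK.rangeRestrict_surjective
  have hT : Nat.card T ≤ 306936 := by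
    show Nat.card (Option ((K ⧸ subOne) ⊕ (K ⧸ subTwoK))) ≤ 306936
    rw [Finite.card_option, Nat.card_sum]
    have h1 : Nat.card (K ⧸ subOne) ≤ 275264 := subOne_index
    have h2 : Nat.card (K ⧸ subTwoK) ≤ 31671 := subTwoK_index
    omega
  exact (Nat.mul_le_mul hH hT).trans (by norm_num)

end CfsgLib.Fi24Pres
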