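import Cfsg.Agent.Lib.Fi24Pres.Point
import Cfsg.Agent.Lib.Fi24Pres.DataWalks

/-!
The edges between the three cosets, and the third stabiliser element coming from the long relator.
-/

set_option autoImplicit false

namespace CfsgLib.Fi24Pres

open CfsgLib.CosetEnum Fi23Mult

/-- the edges given by braids and commutations -/
def baseFacts : List Fact :=
  [⟨0, [], 1, []⟩, ⟨1, [], 0, []⟩, ⟨1, [10], 1, [10]⟩, ⟨1, [0], 1, [0]⟩, ⟨1, [10, 0], 2, []⟩,
    ⟨2, [], 1, [10, 0]⟩, ⟨2, [1, 0], 2, [1, 0]⟩]

/-- the left factors of the basic edges -/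
def etas : List (List ℕ) := [[], [], [10], [0], [], [], [1]]

/-- the check of one basic edge -/
noncomputable def baseOK (i : ℕ) : Bool :=
  match baseFacts[i]? with
  | none => false
  | some f => ltAll 11 (etas.getD i []) && reduces adjB 12 [factMoves.getD i []]
      (stW f.s ++ f.rho ++ [11] ++ (etas.getD i [] ++ (stW f.t ++ f.sigma)).reverse)

theorem base_checked : ((List.range baseFacts.length).all baseOK) = true := by decide +kernel

theorem base_holds : ∀ f ∈ baseFacts, f.Holds := by
  intro f hf
  obtain ⟨i, hi, rfl⟩ := List.getElem_of_mem hf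
  have h := base_checked
  simp only [List.all_eq_true, List.mem_range] at h
  have h1 := h i hi
  rw [baseOK, List.getElem?_eq_getElem hi] at h1
  dsimp only at h1
  simp only [Bool.and_eq_true] at h1
  have h2 := reduces_prod cox h1.2
  rw [prodW_append, prodW_rev, mul_inv_eq_one] at h2
  exact (Sm.left_mem (ltAll_iff.mp h1.1) (Sm.refl _)).cong h2.symm rfl

/-- the trivial list of stabiliser representatives -/
theorem stabGood_one : StabGood [[]] :=
  stabGood (by simp) fun w hw => by rw [List.mem_singleton] at hw; subst hw; exact Sm.refl _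

/-- a walk with the expected end -/
noncomputable def walkTo (fs : List Fact) (trs : List (List ℕ)) (Q : List ℕ) (s : ℕ) (h : List ℕ)
    (ws : List Wit) (t : ℕ) (h' : List ℕ) : Bool :=
  ltAll 11 h &&
    match walk fs trs Q s h ws with
    | some (t', x) => Nat.beq t' t && x == h'
    | none => false

theorem walkTo_spec {fs : List Fact} {trs : List (List ℕ)} (hf : ∀ f ∈ fs, f.Holds)
    (hs : StabGood trs) {Q : List ℕ} {s : ℕ} {h : List ℕ} {ws : List Wit} {t : ℕ} {h' : List ℕ}
    (e : walkTo fs trs Q s h ws t h' = true) : Sm (stW s ++ h ++ Q) (stW t ++ h') := by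
  simp only [walkTo, Bool.and_eq_true] at e
  obtain ⟨eh, e⟩ := e
  cases hw : walk fs trs Q s h ws with
  | none => simp [hw] at e
  | some p =>
    obtain ⟨t', x⟩ := p
    simp only [hw, Bool.and_eq_true, beq_iff_eq] at e
    obtain rfl := Nat.eq_of_beq_eq_true e.1
    obtain rfl := e.2
    exact (walk_spec hf hs (ltAll_iff.mp eh) hw).2

/-- `k` as a word with `a` -/
theorem k_word : prodW gen [0, 11, 0, 11, 0] = prodW gen [11] := by
  have h := cox.braid 11 (by norm_num) 0 (by norm_num) rfl
  simp only [prodW_cons, prodW_nil, mul_one]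
  calc gen 0 * (gen 11 * (gen 0 * (gen 11 * gen 0)))
      = gen 0 * ((gen 11 * gen 0 * gen 11) * gen 0) := by simp only [mul_assoc]
    _ = gen 0 * ((gen 0 * gen 11 * gen 0) * gen 0) := by rw [h]
    _ = (gen 0 * gen 0) * gen 11 * (gen 0 * gen 0) := by simp only [mul_assoc]
    _ = gen 11 := by rw [gen_sq, one_mul, mul_one]

/-- the derived edge at the second coset -/
def fact7 : Fact := ⟨1, rho5, 1, sigma7⟩

theorem check7 : walkTo baseFacts [[]] [0, 11, 0, 11, 0] 1 rho5 walk7 1 sigma7 = true := by
  decide +kernel

theorem fact7_holds : fact7.Holds :=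
  (walkTo_spec base_holds stabGood_one check7).cong
    (by rw [prodW_append, k_word, ← prodW_append]; rfl) rfl

/-- the edges known without the long relator -/
def facts7 : List Fact := baseFacts ++ [fact7]

theorem facts7_holds : ∀ f ∈ facts7, f.Holds := by
  intro f hf
  rcases List.mem_append.mp hf with h | h
  · exact base_holds f h
  · rw [List.mem_singleton.mp h]; exact fact7_holds

/-- the end of a walk -/
noncomputable def walkEnd (fs : List Fact) (trs : List (List ℕ)) (Q : List ℕ) (ws : List Wit) :
    List ℕ :=
  match walk fs trs Q 0 [] ws with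
  | some (_, x) => x
  | none => []

theorem checkHead : walkTo facts7 [[]] zHead 0 [] walkHead 1
    (walkEnd facts7 [[]] zHead walkHead) = true := by decide +kernel

theorem checkTail : walkTo facts7 [[]] zTail 0 [] walkTail 1
    (walkEnd facts7 [[]] zTail walkTail) = true := by decide +kernel

theorem checkTau : (walkEnd facts7 [[]] zHead walkHead ++ (walkEnd facts7 [[]] zTail walkTail).reverse
    == tauW) = true := by decide +kernel

theorem checkSplit : (zHead ++ zTail.reverse == zWord24) = true := by decide +kernel

theorem tau_stab : Sm ([11] ++ tauW) [11] := by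
  have h1 := walkTo_spec facts7_holds stabGood_one checkHead
  have h2 := walkTo_spec facts7_holds stabGood_one checkTail
  have hz : prodW gen zHead = prodW gen zTail := by
    have h := z_one
    rw [← eq_of_beq checkSplit, prodW_append, prodW_rev, mul_inv_eq_one] at h
    exact h
  have h3 : Sm ([11] ++ walkEnd facts7 [[]] zHead walkHead)
      ([11] ++ walkEnd facts7 [[]] zTail walkTail) :=
    h1.symm.trans ((Sm.of_eq (by simpa [stW] using hz)).trans h2)
  refine (h3.app (walkEnd facts7 [[]] zTail walkTail).reverse).cong ?_ ?_
  · rw [← eq_of_beq checkTau, List.append_assoc]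
  · rw [prodW_append, prodW_rev, prodW_append, mul_inv_cancel_right]

theorem b_stab : Sm ([11] ++ (tauW ++ [1])) [11] := by
  have hb : Sm ([11] ++ [1]) [11] := by
    have hc := cox.comm 11 (by norm_num) 1 (by norm_num) rfl
    refine (Sm.left_mem (x := [1]) (by decide) (Sm.refl [11])).cong ?_ rfl
    simp only [prodW_append, prodW_cons, prodW_nil, mul_one]
    exact hc.eq.symm
  exact ((tau_stab.app [1]).cong (by rw [List.append_assoc]) rfl).trans hb

theorem transW_lt : transW.all (ltAll 11) = true := by decide +kernel

/-- the stabiliser representatives -/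
theorem stabGood_trans : StabGood transW := by
  refine stabGood (fun w hw => ltAll_iff.mp (List.all_eq_true.mp transW_lt w hw)) fun w hw => ?_
  simp only [transW, List.mem_cons, List.not_mem_nil, or_false] at hw
  rcases hw with rfl | rfl | rfl
  · exact Sm.refl _
  · exact tau_stab
  · exact b_stab

/-- the derived edge at the third coset -/
def fact8 : Fact := ⟨2, rho8, target8, sigma8⟩

theorem check8 : walkTo facts7 transW [0, 11, 0, 11, 0] 2 rho8 walk8 target8 sigma8 = true := by
  decide +kernel

theorem fact8_holds : fact8.Holds :=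
  (walkTo_spec facts7_holds stabGood_trans check8).cong
    (by rw [prodW_append, k_word, ← prodW_append]; rfl) rfl

end CfsgLib.Fi24Pres
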