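import Cfsg.Agent.Lib.Fi24Pres.CoverDefs

/-!
Kernel checks of the covering of Fi23 × 2 by the double cosets at the second coset.
-/

set_option autoImplicit false
set_option Elab.async false

namespace CfsgLib.Fi24Pres

open CfsgLib.CosetEnum

theorem cover4_gens : (cover4.gens.all fun g => genOK (reps.getD 4 []) g) = true := by decide +kernel

theorem cover4_count : cover4.orbs.length = 7 := by decide +kernel

theorem cover4_orb0 : (((cover4.orbs.drop 0).take 1).all fun o =>
    orbOK (reps.getD 4 []) (cover4.gens.map CovGen.w) o) = true := by decide +kernel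

theorem cover4_orb1 : (((cover4.orbs.drop 1).take 1).all fun o =>
    orbOK (reps.getD 4 []) (cover4.gens.map CovGen.w) o) = true := by decide +kernel

theorem cover4_orb2 : (((cover4.orbs.drop 2).take 1).all fun o =>
    orbOK (reps.getD 4 []) (cover4.gens.map CovGen.w) o) = true := by decide +kernel

theorem cover4_orb3 : (((cover4.orbs.drop 3).take 1).all fun o =>
    orbOK (reps.getD 4 []) (cover4.gens.map CovGen.w) o) = true := by decide +kernel

theorem cover4_orb4 : (((cover4.orbs.drop 4).take 1).all fun o =>
    orbOK (reps.getD 4 []) (cover4.gens.map CovGen.w) o) = true := by decide +kernel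

theorem cover4_orb5 : (((cover4.orbs.drop 5).take 1).all fun o =>
    orbOK (reps.getD 4 []) (cover4.gens.map CovGen.w) o) = true := by decide +kernel

theorem cover4_orb6 : (((cover4.orbs.drop 6).take 1).all fun o =>
    orbOK (reps.getD 4 []) (cover4.gens.map CovGen.w) o) = true := by decide +kernel

theorem cover4_union : Nat.beq (unionMask cover4.orbs) orbMask = true := by decide +kernel

theorem cover4_ok : coverOK (reps.getD 4 []) cover4 = true := by
  simp only [coverOK, Bool.and_eq_true]
  refine ⟨⟨cover4_gens, List.all_eq_true.2 fun o ho => ?_⟩, cover4_union⟩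
  obtain ⟨k, hk, rfl⟩ := List.mem_iff_getElem.mp ho
  have hk' := cover4_count ▸ hk
  have key : ∀ {k : ℕ} (hk : k < cover4.orbs.length),
      (((cover4.orbs.drop k).take 1).all fun o =>
        orbOK (reps.getD 4 []) (cover4.gens.map CovGen.w) o) = true →
      orbOK (reps.getD 4 []) (cover4.gens.map CovGen.w) (cover4.orbs[k]) = true := fun hk h => by
    rw [List.drop_eq_getElem_cons hk, List.take_succ_cons, List.take_zero, List.all_cons, List.all_nil,
      Bool.and_true] at h
    exact h
  refine key hk ?_
  match k, hk' with
  | 0, _ => exact cover4_orb0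
  | 1, _ => exact cover4_orb1
  | 2, _ => exact cover4_orb2
  | 3, _ => exact cover4_orb3
  | 4, _ => exact cover4_orb4
  | 5, _ => exact cover4_orb5
  | 6, _ => exact cover4_orb6
  | m + 7, h => omega

end CfsgLib.Fi24Pres
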