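import Cfsg.Agent.Lib.Fi24Pres.CoverDefs

/-!
Kernel checks of the covering of Fi23 × 2 by the double cosets at the second coset.
-/

set_option autoImplicit false

namespace CfsgLib.Fi24Pres

open CfsgLib.CosetEnum

theorem cover0_ok : coverOK (reps.getD 0 []) cover0 = true := by decide +kernel

theorem cover2_ok : coverOK (reps.getD 2 []) cover2 = true := by decide +kernel

end CfsgLib.Fi24Pres
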