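import Cfsg.Agent.Lib.Fi24Pres.CoverDefs
import Cfsg.Agent.Lib.CosetEnum.Merge

/-!
Kernel checks of the covering of Fi23 × 2 by the double cosets at the second coset.
-/

set_option autoImplicit false

namespace CfsgLib.Fi24Pres

open CfsgLib.CosetEnum

theorem reps_ten : ((List.range reps.length).all fun i =>
    decOK (reps.getD i [] ++ [10]) (closedL.getD i ⟨0, [], 0, []⟩)) = true := by decide +kernel

theorem orbMask_block0 : allUp (upClosed orbMask) 12 0 = true := by decide +kernel

theorem orbMask_block1 : allUp (upClosed orbMask) 12 4096 = true := by decide +kernel

theorem orbMask_block2 : allUp (upClosed orbMask) 12 8192 = true := by decide +kernel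

theorem orbMask_block3 : allUp (upClosed orbMask) 12 12288 = true := by decide +kernel

theorem orbMask_block4 : allUp (upClosed orbMask) 12 16384 = true := by decide +kernel

theorem orbMask_block5 : allUp (upClosed orbMask) 12 20480 = true := by decide +kernel

theorem orbMask_block6 : allUp (upClosed orbMask) 12 24576 = true := by decide +kernel

theorem orbMask_block7 : allUp (upClosed orbMask) 12 28672 = true := by decide +kernel

theorem orbMask_closed : allUp (upClosed orbMask) 15 0 = true :=
  allUp_merge (allUp_merge (allUp_merge orbMask_block0 orbMask_block1) (allUp_merge orbMask_block2 orbMask_block3))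
    (allUp_merge (allUp_merge orbMask_block4 orbMask_block5) (allUp_merge orbMask_block6 orbMask_block7))

theorem orbMask_base : orbMask.testBit pointA = true := by decide +kernel

theorem chain_comm : ((chainWords levelsA).all fun w =>
    eqK (0 :: w) (w ++ [0])) = true := by decide +kernel

end CfsgLib.Fi24Pres
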