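import Cfsg.Agent.Lib.CosetEnum.ChainSplit
import Cfsg.Agent.Lib.Fi24Pres.DataCA
import Cfsg.Agent.Lib.Fi24Pres.DataMoves
import Cfsg.Agent.Lib.Fi23Pres.CheckA

/-!
Kernel check of the chain for the stabiliser of a point.
-/

set_option autoImplicit false

namespace CfsgLib.Fi24Pres

open CfsgLib.CosetEnum

/-- a word is cut into the letters two to nine and the reflection of the highest root of E7 -/
noncomputable def cutOK : ℕ → List ℕ → Bool
  | _, [] => true
  | 0, _ :: _ => false
  | n + 1, g :: w =>
    if (g :: w).take rootSeven.length == rootSeven then cutOK n ((g :: w).drop rootSeven.length)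
    else Nat.ble 2 g && Nat.blt g 10 && cutOK n w

theorem levelsA_ok : chainOK Fi23Pres.certA levelsA = true := by decide +kernel

theorem levelsA_size : chainSize Fi23Pres.certA levelsA = 129123503308800 := by decide +kernel

theorem levelsA_cut : ((chainWords levelsA).all fun w => cutOK w.length w &&
    Nat.beq (Fi23Pres.certA.run pointA w.reverse) pointA) = true := by decide +kernel

theorem inv_self : ((List.range 10).all fun g => Nat.beq (Fi23Pres.certA.inv g) g) = true := by
  decide +kernel

end CfsgLib.Fi24Pres
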