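import Cfsg.Agent.Lib.Fi24Pres.Words

/-!
Right cosets of the subgroup on `a … j, l`: facts about the letter `k` and walks along words.
-/

set_option autoImplicit false

namespace CfsgLib.Fi24Pres

open CfsgLib.CosetEnum Cfsg.Spor

/-- the subgroup on the letters other than `k` -/
def subH : Subgroup Fi24 := Subgroup.closure {y | ∃ g < 11, gen g = y}

theorem word_mem {w : List ℕ} (hw : ∀ g ∈ w, g < 11) : prodW gen w ∈ subH := by
  refine Subgroup.list_prod_mem _ fun x hx => ?_
  obtain ⟨g, hg, rfl⟩ := List.mem_map.mp hx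
  exact Subgroup.subset_closure ⟨g, hw g hg, rfl⟩

/-- two words give the same coset -/
def Sm (u w : List ℕ) : Prop := prodW gen u * (prodW gen w)⁻¹ ∈ subH

theorem Sm.refl (u : List ℕ) : Sm u u := by simp [Sm]

theorem Sm.of_eq {u w : List ℕ} (h : prodW gen u = prodW gen w) : Sm u w := by simp [Sm, h]

theorem Sm.symm {u w : List ℕ} (h : Sm u w) : Sm w u := by
  simpa [Sm] using subH.inv_mem h

theorem Sm.trans {u w x : List ℕ} (h : Sm u w) (h' : Sm w x) : Sm u x := by
  simpa [Sm, mul_assoc] using subH.mul_mem h h'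

theorem Sm.app {u w : List ℕ} (h : Sm u w) (x : List ℕ) : Sm (u ++ x) (w ++ x) := by
  simpa [Sm, prodW_append, mul_assoc] using h

theorem Sm.cong {u w u' w' : List ℕ} (h : Sm u w) (hu : prodW gen u = prodW gen u')
    (hw : prodW gen w = prodW gen w') : Sm u' w' := by
  unfold Sm at h ⊢
  rwa [← hu, ← hw]

theorem Sm.left_mem {u w x : List ℕ} (hx : ∀ g ∈ x, g < 11) (h : Sm u w) : Sm (x ++ u) w := by
  simpa [Sm, prodW_append, mul_assoc] using subH.mul_mem (word_mem hx) h

/-- all letters below a bound -/
noncomputable def ltAll (n : ℕ) (w : List ℕ) : Bool := w.all fun g => Nat.blt g n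

theorem ltAll_iff {n : ℕ} {w : List ℕ} : ltAll n w = true ↔ ∀ g ∈ w, g < n := by
  simp [ltAll]

/-- all letters commute with `k` and lie below ten -/
noncomputable def rightOK (w : List ℕ) : Bool := w.all fun g => Nat.blt g 10 && !Nat.beq g 0

theorem rightOK_spec {w : List ℕ} (h : rightOK w = true) :
    (∀ g ∈ w, g < 10) ∧ Commute (gen 11) (prodW gen w) := by
  simp only [rightOK, List.all_eq_true, Bool.and_eq_true, Nat.blt_eq, Bool.not_eq_true'] at h
  refine ⟨fun g hg => (h g hg).1, Fi24Spider.commute_word fun g hg => ?_⟩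
  have hadj : ∀ g < 10, g ≠ 0 → adjB 11 g = false := by decide +kernel
  have hne : g ≠ 0 := fun e => by
    have := (h g hg).2
    rw [e] at this
    simp at this
  exact cox.comm 11 (by norm_num) g (by have := (h g hg).1; omega) (hadj g (h g hg).1 hne)

/-- a fact: the coset of a state times a word, times `k` -/
structure Fact where
  /-- the state -/
  s : ℕ
  /-- the word -/
  rho : List ℕ
  /-- the target state -/
  t : ℕ
  /-- the target word -/
  sigma : List ℕ

/-- a fact holds -/
def Fact.Holds (f : Fact) : Prop := Sm (stW f.s ++ f.rho ++ [11]) (stW f.t ++ f.sigma)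

/-- the word of a stabiliser witness -/
def stabW (trs : List (List ℕ)) (s : ℕ) (st : List ℕ) (cls : ℕ) : List ℕ :=
  if s = 1 then st ++ trs.getD cls [] else st

/-- the check of a stabiliser witness -/
noncomputable def stabOK (trs : List (List ℕ)) (s : ℕ) (st : List ℕ) (cls : ℕ) : Bool :=
  match s with
  | 0 => ltAll 11 st
  | 1 => rightOK st && Nat.blt cls trs.length
  | 2 => ltAll 11 st && Nat.beq (Fi23Pres.certA.run pointA (strip st)) pointA
  | _ => false

/-- the witnesses are in the stabilisers -/
structure StabGood (trs : List (List ℕ)) : Prop where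
  lt : ∀ w ∈ trs, ∀ g ∈ w, g < 11
  one : ∀ w ∈ trs, Sm ([11] ++ w) [11]
  two : ∀ w : List ℕ, (∀ g ∈ w, g < 11) → Fi23Pres.certA.run pointA (strip w) = pointA →
    Sm (stW 2 ++ w) (stW 2)

theorem stab_spec {trs : List (List ℕ)} (h : StabGood trs) {s : ℕ} {st : List ℕ} {cls : ℕ}
    (e : stabOK trs s st cls = true) :
    (∀ g ∈ stabW trs s st cls, g < 11) ∧ Sm (stW s ++ stabW trs s st cls) (stW s) := by
  match s, e with
  | 0, e =>
    have hlt := ltAll_iff.mp e
    refine ⟨by simpa [stabW] using hlt, ?_⟩
    show prodW gen ([] ++ st) * (prodW gen [])⁻¹ ∈ subH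
    simpa using word_mem hlt
  | 1, e =>
    simp only [stabOK, Bool.and_eq_true, Nat.blt_eq] at e
    obtain ⟨h10, hc⟩ := rightOK_spec e.1
    have hmem : trs.getD cls [] ∈ trs := by
      rw [List.getD_eq_getElem _ _ e.2]; exact List.getElem_mem e.2
    have h11 : ∀ g ∈ st, g < 11 := fun g hg => (h10 g hg).trans (by norm_num)
    refine ⟨fun g hg => ?_, ?_⟩
    · simp only [stabW, if_true, List.mem_append] at hg
      exact hg.elim (h11 g) (h.lt _ hmem g)
    · show Sm ([11] ++ stabW trs 1 st cls) [11]
      rw [stabW, if_pos rfl]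
      refine Sm.cong (Sm.left_mem h11 (h.one _ hmem)) ?_ rfl
      simp only [prodW_append, prodW_cons, prodW_nil, mul_one]
      rw [← mul_assoc, ← mul_assoc, hc.eq]
  | 2, e =>
    simp only [stabOK, Bool.and_eq_true] at e
    have hlt := ltAll_iff.mp e.1
    exact ⟨by simpa [stabW] using hlt, by
      rw [stabW, if_neg (by norm_num)]; exact h.two _ hlt (Nat.eq_of_beq_eq_true e.2)⟩
  | n + 3, e => simp [stabOK] at e

/-- one step along `k` -/
noncomputable def kStep (fs : List Fact) (trs : List (List ℕ)) (s : ℕ) (h : List ℕ) (w : Wit) :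
    Option (ℕ × List ℕ) :=
  match fs[w.id]? with
  | none => none
  | some f =>
    if Nat.beq f.s s && stabOK trs s w.st w.cls && rightOK w.u && ltAll 11 f.rho && ltAll 11 f.sigma &&
        eqK h (stabW trs s w.st w.cls ++ (f.rho ++ w.u)) then
      some (f.t, f.sigma ++ w.u)
    else none

theorem kStep_spec {fs : List Fact} {trs : List (List ℕ)} (hf : ∀ f ∈ fs, f.Holds)
    (hs : StabGood trs) {s : ℕ} {h : List ℕ} {w : Wit} {t : ℕ} {h' : List ℕ} (hh : ∀ g ∈ h, g < 11)
    (e : kStep fs trs s h w = some (t, h')) :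
    (∀ g ∈ h', g < 11) ∧ Sm (stW s ++ h ++ [11]) (stW t ++ h') := by
  unfold kStep at e
  cases hfw : fs[w.id]? with
  | none => simp [hfw] at e
  | some f =>
    rw [hfw] at e
    dsimp only at e
    split at e
    · rename_i hc
      simp only [Bool.and_eq_true] at hc
      obtain ⟨⟨⟨⟨⟨hfs, hst⟩, hu⟩, hr⟩, hsg⟩, heq⟩ := hc
      obtain rfl := Nat.eq_of_beq_eq_true hfs
      simp only [Option.some.injEq, Prod.mk.injEq] at e
      obtain ⟨rfl, rfl⟩ := e
      obtain ⟨hlt, hsm⟩ := stab_spec hs hst
      obtain ⟨hu10, huc⟩ := rightOK_spec hu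
      have hu11 : ∀ g ∈ w.u, g < 11 := fun g hg => (hu10 g hg).trans (by norm_num)
      have hr' := ltAll_iff.mp hr
      refine ⟨fun g hg => (List.mem_append.mp hg).elim (ltAll_iff.mp hsg g) (hu11 g), ?_⟩
      have heq' := eq_of_eqK hh (fun g hg => (List.mem_append.mp hg).elim (hlt g)
        fun hg => (List.mem_append.mp hg).elim (hr' g) (hu11 g)) heq
      have h1 := hsm.app (f.rho ++ w.u ++ [11])
      have h2 : Sm (stW f.s ++ f.rho ++ [11] ++ w.u) (stW f.t ++ f.sigma ++ w.u) :=
        (hf f (List.mem_of_getElem? hfw)).app w.u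
      refine (h1.cong ?_ ?_).trans (h2.cong rfl ?_)
      · simp only [prodW_append, prodW_cons, prodW_nil, mul_one, mul_assoc] at heq' ⊢
        rw [heq']
        simp only [mul_assoc]
      · simp only [prodW_append, prodW_cons, prodW_nil, mul_one, mul_assoc]
        rw [huc.eq]
      · simp only [prodW_append, mul_assoc]
    · simp at e

/-- follow a word -/
noncomputable def walk (fs : List Fact) (trs : List (List ℕ)) :
    List ℕ → ℕ → List ℕ → List Wit → Option (ℕ × List ℕ)
  | [], s, h, _ => some (s, h)
  | g :: Q, s, h, ws =>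
    if Nat.blt g 11 then walk fs trs Q s (h ++ [g]) ws
    else if Nat.beq g 11 then
      match ws with
      | [] => none
      | w :: ws =>
        match kStep fs trs s h w with
        | none => none
        | some (t, h') => walk fs trs Q t h' ws
    else none

theorem walk_spec {fs : List Fact} {trs : List (List ℕ)} (hf : ∀ f ∈ fs, f.Holds)
    (hs : StabGood trs) : ∀ {Q : List ℕ} {s : ℕ} {h : List ℕ} {ws : List Wit} {t : ℕ} {h' : List ℕ},
      (∀ g ∈ h, g < 11) → walk fs trs Q s h ws = some (t, h') →
      (∀ g ∈ h', g < 11) ∧ Sm (stW s ++ h ++ Q) (stW t ++ h')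
  | [], s, h, ws, t, h', hh, e => by
    simp only [walk, Option.some.injEq, Prod.mk.injEq] at e
    obtain ⟨rfl, rfl⟩ := e
    exact ⟨hh, by simpa using Sm.refl _⟩
  | g :: Q, s, h, ws, t, h', hh, e => by
    rw [walk.eq_def] at e
    dsimp only at e
    split at e
    · rename_i hg
      rw [Nat.blt_eq] at hg
      obtain ⟨h1, h2⟩ := walk_spec hf hs (fun x hx => (List.mem_append.mp hx).elim (hh x)
        (fun hx => by rw [List.mem_singleton] at hx; omega)) e
      exact ⟨h1, by simpa [List.append_assoc] using h2⟩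
    · split at e
      · rename_i hg
        obtain rfl := Nat.eq_of_beq_eq_true hg
        cases ws with
        | nil => simp at e
        | cons w ws =>
          dsimp only at e
          cases hk : kStep fs trs s h w with
          | none => simp [hk] at e
          | some q =>
            obtain ⟨t1, h1'⟩ := q
            simp only [hk] at e
            obtain ⟨a1, a2⟩ := kStep_spec hf hs hh hk
            obtain ⟨b1, b2⟩ := walk_spec hf hs a1 e
            refine ⟨b1, ((a2.app Q).trans b2).cong ?_ rfl⟩
            simp [List.append_assoc]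
      · simp at e

end CfsgLib.Fi24Pres
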