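import Cfsg.Agent.Lib.Fi24Pres.Facts
import Cfsg.Agent.Lib.Fi24Pres.ChkCoverLow
import Cfsg.Agent.Lib.Fi24Pres.ChkCoverFour
import Cfsg.Agent.Lib.Fi24Pres.ChkCoverMask

/-!
The cover Fi23 × 2 is the union of five double cosets of the stabiliser of the second coset and the
subgroup on the letters commuting with `k`.
-/

set_option autoImplicit false

namespace CfsgLib.Fi24Pres

open CfsgLib.CosetEnum Cfsg.Spor

/-- the part of the cover stabilising the second coset -/
noncomputable def subOne : Subgroup K :=
  (subH.comap (MulAut.conj (gen 11)).toMonoidHom).comap psiK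

theorem word_subOne {w : List ℕ} (hw : ∀ g ∈ w, g < 11) (h : Sm ([11] ++ w) [11]) :
    prodW genK w ∈ subOne := by
  have e : prodW gen [11] = gen 11 := by simp
  rw [subOne, Subgroup.mem_comap, psiK_word hw]
  show gen 11 * prodW gen w * (gen 11)⁻¹ ∈ subH
  rw [Sm, prodW_append, e] at h
  exact h

theorem subOne_sm {w : List ℕ} (hw : ∀ g ∈ w, g < 11) (h : prodW genK w ∈ subOne) :
    Sm ([11] ++ w) [11] := by
  have e : prodW gen [11] = gen 11 := by simp
  rw [subOne, Subgroup.mem_comap, psiK_word hw] at h
  rw [Sm, prodW_append, e]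
  exact h

theorem stab_subOne {st : List ℕ} {cls : ℕ} (h : stabOK transW 1 st cls = true) :
    prodW genK (stabW transW 1 st cls) ∈ subOne := by
  obtain ⟨hlt, hsm⟩ := stab_spec stabGood_trans h
  exact word_subOne hlt hsm

/-- the letters commuting with `k` -/
noncomputable def subRight : Subgroup K := Subgroup.closure {y | ∃ g, 1 ≤ g ∧ g < 10 ∧ genK g = y}

theorem right_mem {w : List ℕ} (h : rightOK w = true) : prodW genK w ∈ subRight := by
  simp only [rightOK, List.all_eq_true, Bool.and_eq_true, Nat.blt_eq, Bool.not_eq_true'] at h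
  refine Subgroup.list_prod_mem _ fun x hx => ?_
  obtain ⟨g, hg, rfl⟩ := List.mem_map.mp hx
  refine Subgroup.subset_closure ⟨g, ?_, (h g hg).1, rfl⟩
  rcases g with _ | g
  · have := (h 0 hg).2
    simp at this
  · omega

theorem ten_central (y : K) : Commute (genK 10) y := by
  have h10 : Fi23Pres.gen 10 = 1 := by
    unfold Fi23Pres.gen presGen
    exact genOf_of_ge (show Fi23Pres.letters.length ≤ 10 by decide)
  obtain ⟨a, b⟩ := y
  show genK 10 * (a, b) = (a, b) * genK 10
  rw [genK, h10, Prod.mk_mul_mk, Prod.mk_mul_mk, one_mul, mul_one, mul_comm]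

/-- elements of the five double cosets -/
def CoveredBy (S : Subgroup K) (x : K) : Prop :=
  ∃ i < reps.length, ∃ s ∈ S, ∃ u ∈ subRight, x = s * prodW genK (reps.getD i []) * u

/-- elements of the five double cosets at the second coset -/
def Covered (x : K) : Prop := CoveredBy subOne x

/-- a subgroup with the checked stabiliser elements -/
def StabIn (S : Subgroup K) : Prop :=
  ∀ {st : List ℕ} {cls : ℕ}, stabOK transW 1 st cls = true → prodW genK (stabW transW 1 st cls) ∈ S

theorem covered_left {S : Subgroup K} {s x : K} (hs : s ∈ S) (h : CoveredBy S x) : CoveredBy S (s * x) := by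
  obtain ⟨i, hi, s', hs', u, hu, rfl⟩ := h
  exact ⟨i, hi, s * s', mul_mem hs hs', u, hu, by simp only [mul_assoc]⟩

theorem covered_right {S : Subgroup K} {x u : K} (hu : u ∈ subRight) (h : CoveredBy S x) :
    CoveredBy S (x * u) := by
  obtain ⟨i, hi, s', hs', u', hu', rfl⟩ := h
  exact ⟨i, hi, s', hs', u' * u, mul_mem hu' hu, by simp only [mul_assoc]⟩

theorem dec_covered {S : Subgroup K} (hS : StabIn S) {h : List ℕ} {d : Wit}
    (e : decOK h d = true) : CoveredBy S (prodW genK h) := by
  simp only [decOK, Bool.and_eq_true, Nat.blt_eq] at e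
  obtain ⟨⟨⟨hi, hu⟩, hs⟩, heq⟩ := e
  refine ⟨d.id, hi, _, hS hs, _, right_mem hu, ?_⟩
  rw [eqK_spec heq, prodW_append, prodW_append, mul_assoc]

theorem covered_ten {S : Subgroup K} (hS : StabIn S) {x : K} (h : CoveredBy S x) :
    CoveredBy S (x * genK 10) := by
  obtain ⟨i, hi, s, hs, u, hu, rfl⟩ := h
  have hd := reps_ten
  simp only [List.all_eq_true, List.mem_range] at hd
  have h1 := dec_covered hS (hd i hi)
  rw [prodW_append, prodW_cons, prodW_nil, mul_one] at h1
  rw [show s * prodW genK (reps.getD i []) * u * genK 10 =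
      s * (prodW genK (reps.getD i []) * genK 10 * u) by
    rw [mul_assoc, ← (ten_central u).eq]; simp only [mul_assoc]]
  exact covered_left hs (covered_right hu h1)

/-- the point of an element -/
noncomputable def ptOf (u : K) : Fin Fi23Pres.certA.N := Fi23Pres.rho u.1 ptA

theorem rho_word {w : List ℕ} (hw : ∀ g ∈ w, g < 10) (p : Fin Fi23Pres.certA.N) :
    (Fi23Pres.rho (prodW genK w).1 p : ℕ) = Fi23Pres.certA.run p w.reverse := by
  rw [fst_prodW, Fi23Pres.setupA.rho_prodW hw, revInv_eq_reverse hw]

/-- A closed mask is closed under the group of the letters commuting with `k`. -/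
theorem right_orbit {m : ℕ} (hm : allUp (upClosed m) 15 0 = true) {u : K} (hu : u ∈ subRight) :
    ∀ p : Fin Fi23Pres.certA.N, m.testBit p = true →
      m.testBit (Fi23Pres.rho u.1 p : ℕ) = true := by
  have key : ∀ g, 1 ≤ g → g < 10 → ∀ p : Fin Fi23Pres.certA.N,
      m.testBit p = true → m.testBit (Fi23Pres.rho (genK g).1 p : ℕ) = true := by
    intro g h1 h10 p hp
    have h := allUp_spec hm p (Nat.zero_le _) (by
      have := p.2
      have e : Fi23Pres.certA.N = 31671 := rfl
      omega)
    unfold upClosed at h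
    simp only [strict_eq, hp, ltB_iff.mpr p.2, Bool.and_self, pick_true, List.all_eq_true] at h
    have h2 := rho_word (w := [g]) (by simpa using h10) p
    simp only [prodW_cons, prodW_nil, mul_one, List.reverse_singleton] at h2
    rw [h2]
    exact h g (by simp only [List.mem_cons, List.not_mem_nil, or_false]; omega)
  induction hu using Subgroup.closure_induction'' with
  | one => intro p hp; simpa using hp
  | mem y hy => obtain ⟨g, h1, h10, rfl⟩ := hy; exact key g h1 h10
  | inv_mem y hy =>
    obtain ⟨g, h1, h10, rfl⟩ := hy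
    have : (genK g)⁻¹ = genK g := inv_eq_of_mul_eq_one_right (Prod.ext (Fi23Pres.gen_sq g)
      (show Multiplicative.ofAdd (1 : ZMod 2) * Multiplicative.ofAdd 1 = 1 by decide))
    rw [this]
    exact key g h1 h10
  | mul a b _ _ ha hb =>
    intro p hp
    rw [Prod.fst_mul, map_mul, Equiv.Perm.mul_apply]
    exact ha _ (hb p hp)

theorem ptOf_mask {u : K} (hu : u ∈ subRight) : orbMask.testBit (ptOf u : ℕ) = true :=
  right_orbit orbMask_closed hu ptA orbMask_base

theorem fix_comm_zero {c : K} (h : c.1 ∈ fixA) : Commute c (genK 0) := by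
  have hle : fixA ≤ Subgroup.centralizer {Fi23Pres.gen 0} := by
    refine fixA_le_of fun w hw => ?_
    rw [Subgroup.mem_centralizer_singleton_iff]
    have h := chain_comm
    simp only [List.all_eq_true] at h
    have h1 := congrArg Prod.fst (eqK_spec (h w hw))
    simp only [prodW_cons, prodW_append, prodW_nil, mul_one, Prod.fst_mul, fst_prodW] at h1
    exact h1.symm
  have h1 := hle h
  rw [Subgroup.mem_centralizer_singleton_iff] at h1
  exact Prod.ext h1 (mul_comm _ _)

theorem cover_zero {S : Subgroup K} (hS : StabIn S) {r : List ℕ} {c : Cover} (hc : coverOK r c = true) {u : K}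
    (hu : u ∈ subRight) : CoveredBy S (prodW genK r * u * genK 0) := by
  simp only [coverOK, Bool.and_eq_true, List.all_eq_true] at hc
  obtain ⟨⟨hgens, horbs⟩, hun⟩ := hc
  have hmask := ptOf_mask hu
  rw [← Nat.eq_of_beq_eq_true hun] at hmask
  obtain ⟨o, ho, hbit⟩ : ∃ o ∈ c.orbs, o.mask.testBit (ptOf u : ℕ) = true := by
    clear horbs hun
    generalize c.orbs = os at hmask ⊢
    induction os with
    | nil => simp [unionMask] at hmask
    | cons o os ih =>
      rw [unionMask, Nat.testBit_or, Bool.or_eq_true] at hmask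
      rcases hmask with h | h
      · exact ⟨o, List.mem_cons_self, h⟩
      · obtain ⟨o', h1, h2⟩ := ih h
        exact ⟨o', List.mem_cons_of_mem _ h1, h2⟩
  have hok := horbs o ho
  simp only [orbOK, Bool.and_eq_true] at hok
  obtain ⟨⟨hv, hdec⟩, htree⟩ := hok
  obtain ⟨hv10, -⟩ := rightOK_spec hv
  -- the group of the generators
  let Γ : Subgroup K := Subgroup.closure {y | ∃ g ∈ c.gens, prodW genK g.w = y}
  have hΓr : Γ ≤ subRight := (Subgroup.closure_le _).mpr fun y hy => by
    obtain ⟨g, hg, rfl⟩ := hy
    have := hgens g hg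
    simp only [genOK, Bool.and_eq_true] at this
    exact right_mem this.1.1
  have hΓs : Γ ≤ S.comap (MulAut.conj (prodW genK r)).toMonoidHom :=
    (Subgroup.closure_le _).mpr fun y hy => by
      obtain ⟨g, hg, rfl⟩ := hy
      have := hgens g hg
      simp only [genOK, Bool.and_eq_true] at this
      have e := eqK_spec this.2
      rw [prodW_append, prodW_append] at e
      show prodW genK r * prodW genK g.w * (prodW genK r)⁻¹ ∈ S
      rw [e, mul_inv_cancel_right]
      exact hS this.1.2
  obtain ⟨γ, hγ, hpt⟩ : ∃ γ ∈ Γ, Fi23Pres.rho γ.1 (ptOf (prodW genK o.v)) = ptOf u := by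
    cases hr : reach Fi23Pres.certA (c.gens.map CovGen.w) o.tree
        (2 ^ Fi23Pres.certA.run pointA o.v.reverse) with
    | none => simp [hr] at htree
    | some m =>
      rw [hr] at htree
      obtain rfl := Nat.eq_of_beq_eq_true htree
      have hstart : (ptOf (prodW genK o.v) : ℕ) = Fi23Pres.certA.run pointA o.v.reverse :=
        rho_word hv10 ptA
      obtain ⟨hb, γ, hγ, e⟩ := reach_spec
        (P := fun y => ∃ hy : y < Fi23Pres.certA.N, ∃ γ ∈ Γ,
          Fi23Pres.rho γ.1 (ptOf (prodW genK o.v)) = (⟨y, hy⟩ : Fin Fi23Pres.certA.N))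
        (fun y i hi ⟨hy, γ, hγ, e⟩ => by
          rw [List.length_map] at hi
          rw [List.getD_eq_getElem _ _ (by simpa using hi), List.getElem_map]
          have hg := hgens _ (List.getElem_mem hi)
          simp only [genOK, Bool.and_eq_true] at hg
          obtain ⟨hw, -⟩ := rightOK_spec hg.1.1
          have ha := rho_word hw ⟨y, hy⟩
          rw [← revInv_eq_reverse hw] at ha
          refine ⟨ha ▸ Fin.isLt _, prodW genK (c.gens[i]).w * γ,
            mul_mem (Subgroup.subset_closure ⟨_, List.getElem_mem hi, rfl⟩) hγ, ?_⟩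
          rw [Prod.fst_mul, map_mul, Equiv.Perm.mul_apply, e]
          exact Fin.ext ha)
        o.tree _ _ hr (fun y hy => by
          rw [Nat.testBit_two_pow, decide_eq_true_eq] at hy
          refine ⟨hy ▸ hstart ▸ Fin.isLt _, 1, one_mem _, Fin.ext ?_⟩
          simpa using hstart.trans hy) _ hbit
      exact ⟨γ, hγ, e⟩
  have hfix : ((prodW genK o.v)⁻¹ * γ⁻¹ * u).1 ∈ fixA := by
    rw [mem_fixA, Prod.fst_mul, Prod.fst_mul, Prod.fst_inv, Prod.fst_inv, map_mul, map_mul,
      map_inv, map_inv, Equiv.Perm.mul_apply, Equiv.Perm.mul_apply, Equiv.Perm.inv_eq_iff_eq,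
      Equiv.Perm.inv_eq_iff_eq]
    exact hpt.symm
  have hcm := fix_comm_zero hfix
  set cc := (prodW genK o.v)⁻¹ * γ⁻¹ * u with hcc
  have hcr : cc ∈ subRight := mul_mem (mul_mem (inv_mem (right_mem hv)) (inv_mem (hΓr hγ))) hu
  have e : prodW genK r * u * genK 0 =
      (prodW genK r * γ * (prodW genK r)⁻¹) * prodW genK (r ++ o.v ++ [0]) * cc := by
    have hu' : u = γ * prodW genK o.v * cc := by rw [hcc]; group
    rw [hu', prodW_append, prodW_append, prodW_cons, prodW_nil, mul_one]
    simp only [mul_assoc, hcm.eq, inv_mul_cancel_left]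
  rw [e, mul_assoc]
  exact covered_left (hΓs hγ) (covered_right hcr (dec_covered hS hdec))

theorem covered_zero {S : Subgroup K} (hS : StabIn S) {x : K} (h : CoveredBy S x) :
    CoveredBy S (x * genK 0) := by
  obtain ⟨i, hi, s, hs, u, hu, rfl⟩ := h
  rw [show s * prodW genK (reps.getD i []) * u * genK 0 =
      s * (prodW genK (reps.getD i []) * u * genK 0) by simp only [mul_assoc]]
  refine covered_left hs ?_
  have hi5 : i < 5 := hi
  interval_cases i
  · exact cover_zero hS cover0_ok hu
  · have h := covered_ten hS (cover_zero hS cover0_ok hu)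
    convert h using 1
    simp only [reps, List.getD_cons_zero, List.getD_cons_succ, prodW_cons, prodW_nil, mul_one, one_mul]
    rw [mul_assoc, (ten_central (u * genK 0)).eq]
  · exact cover_zero hS cover2_ok hu
  · have h := covered_ten hS (cover_zero hS cover2_ok hu)
    convert h using 1
    simp only [reps, List.getD_cons_zero, List.getD_cons_succ, prodW_cons, prodW_nil, mul_one]
    rw [← (ten_central (genK 0 * u * genK 0)).eq]
    simp only [mul_assoc]
  · exact cover_zero hS cover4_ok hu

theorem gen_K_top : Subgroup.closure {y : K | ∃ g < 11, genK g = y} = ⊤ := by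
  refine eq_top_iff.mpr fun x _ => ?_
  have hten : genK 10 ∈ Subgroup.closure {y : K | ∃ g < 11, genK g = y} :=
    Subgroup.subset_closure ⟨10, by norm_num, rfl⟩
  have hy : x.1 ∈ Subgroup.closure {z | ∃ g < Fi23Pres.certA.K, Fi23Pres.gen g = z} := by
    rw [Fi23Pres.setupA.gen_top]; trivial
  suffices ∀ y ∈ Subgroup.closure {z | ∃ g < Fi23Pres.certA.K, Fi23Pres.gen g = z},
      ((y, 1) : K) ∈ Subgroup.closure {y : K | ∃ g < 11, genK g = y} by
    obtain ⟨a, b⟩ := x
    have hb : ∀ b : Multiplicative (ZMod 2), b = 1 ∨ b = Multiplicative.ofAdd 1 := by decide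
    rcases hb b with rfl | rfl
    · exact this a hy
    · have h10 : Fi23Pres.gen 10 = 1 := by
        unfold Fi23Pres.gen presGen
        exact genOf_of_ge (show Fi23Pres.letters.length ≤ 10 by decide)
      have h2 := mul_mem (this a hy) hten
      rw [genK, h10, Prod.mk_mul_mk, mul_one, one_mul] at h2
      exact h2
  intro y hy
  induction hy using Subgroup.closure_induction with
  | mem z hz =>
    obtain ⟨g, hg, rfl⟩ := hz
    have hK : Fi23Pres.certA.K = 10 := rfl
    have h10 : Fi23Pres.gen 10 = 1 := by
      unfold Fi23Pres.gen presGen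
      exact genOf_of_ge (show Fi23Pres.letters.length ≤ 10 by decide)
    have h2 := mul_mem (Subgroup.subset_closure (k := {y : K | ∃ g < 11, genK g = y})
      ⟨g, by omega, rfl⟩) hten
    rw [genK, genK, h10, Prod.mk_mul_mk, mul_one,
      show Multiplicative.ofAdd (1 : ZMod 2) * Multiplicative.ofAdd 1 = 1 by decide] at h2
    exact h2
  | one => exact one_mem _
  | mul a b _ _ ha hb => simpa using mul_mem ha hb
  | inv a _ ha => simpa using inv_mem ha

/-- Every element of the cover lies in one of the five double cosets. -/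
theorem coveredBy_all {S : Subgroup K} (hS : StabIn S) (x : K) : CoveredBy S x := by
  have hx : x ∈ Submonoid.closure {y : K | ∃ g < 11, genK g = y} := by
    have h : x ∈ (Subgroup.closure {y : K | ∃ g < 11, genK g = y}).toSubmonoid := by
      rw [gen_K_top]; trivial
    rw [Subgroup.closure_toSubmonoid_of_finite] at h
    exact h
  induction hx using Submonoid.closure_induction_right with
  | one => exact ⟨0, by decide, 1, one_mem _, 1, one_mem _, by simp [reps]⟩
  | mul_right y _ g hg ih =>
    obtain ⟨g, h11, rfl⟩ := hg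
    rcases Nat.lt_or_ge g 1 with h | h
    · obtain rfl : g = 0 := by omega
      exact covered_zero hS ih
    · rcases Nat.lt_or_ge g 10 with h' | h'
      · exact covered_right (Subgroup.subset_closure ⟨g, h, h', rfl⟩) ih
      · obtain rfl : g = 10 := by omega
        exact covered_ten hS ih

theorem covered_all (x : K) : Covered x := coveredBy_all (fun h => stab_subOne h) x

end CfsgLib.Fi24Pres
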