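import Cfsg.Prelude.Def_Spor_Fi24
import Cfsg.Agent.Lib.Fi23Pres.Main

/-!
Words for the presented Fi24: letters `a … j` are `0 … 9`, `l` is `10`, `k` is `11`.
-/

set_option autoImplicit false

namespace CfsgLib.Fi24Pres

open CfsgLib.CosetEnum Cfsg.Spor

/-- the letters in order -/
def letters : List Fi24.Gen := [.a, .b, .c, .d, .e, .f, .g, .h, .i, .j, .l, .k]

/-- the numbered generators -/
def gen : ℕ → Fi24 := presGen letters Fi24.edges Fi24.extra

/-- the Coxeter diagram on the numbers -/
def adjB (p q : ℕ) : Bool :=
  match p, q with
  | 10, 11 | 11, 10 | 11, 0 | 0, 11 | 0, 1 | 1, 0 | 1, 2 | 2, 1 | 2, 3 | 3, 2 | 3, 4 | 4, 3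
  | 3, 7 | 7, 3 | 4, 5 | 5, 4 | 5, 6 | 6, 5 | 6, 9 | 9, 6 | 7, 8 | 8, 7 => true
  | _, _ => false

/-- the words of the states: the three kinds of cosets -/
def stW (s : ℕ) : List ℕ := [[], [11], [11, 10, 0, 11]].getD s []

/-- the coset of the point fixed by the stabiliser of the last state -/
def pointA : ℕ := 11589

/-- a step or decomposition witness: number, stabiliser word, class, right part -/
structure Wit where
  /-- which representative or fact -/
  id : ℕ
  /-- stabiliser word -/
  st : List ℕ
  /-- class of the stabiliser -/
  cls : ℕ
  /-- right part -/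
  u : List ℕ

/-- a generator of an intersection with its conjugate -/
structure CovGen where
  /-- the word -/
  w : List ℕ
  /-- its conjugate, known part -/
  st : List ℕ
  /-- its conjugate, class -/
  cls : ℕ

/-- an orbit with the decomposition of its representative -/
structure CovOrb where
  /-- the word taking the point of `a` to the representative -/
  v : List ℕ
  /-- spanning tree -/
  tree : List (ℕ × ℕ)
  /-- orbit -/
  mask : ℕ
  /-- decomposition -/
  dec : Wit

/-- covering data of one representative -/
structure Cover where
  /-- the representative -/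
  rep : ℕ
  /-- generators -/
  gens : List CovGen
  /-- orbits -/
  orbs : List CovOrb

end CfsgLib.Fi24Pres
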