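import Cfsg.Agent.Lib.Fi24Pres.Words
import Cfsg.Agent.Lib.Fi24Pres.DataMoves

/-!
The subdiagram of type E8: its central involution is trivial in Fi24, `l` is the reflection of the highest
root, and one reflection lies in the stabiliser of the third coset.
-/

set_option autoImplicit false

namespace CfsgLib.Fi24Pres

open CfsgLib.CosetEnum Fi23Mult

theorem seven_red : reduces adjB 12 sevenMoves (sevenW ++ (rootEight ++ minusOne)) = true := by
  decide +kernel

theorem zk_red : reduces adjB 12 zkMoves (minusOne ++ ([11] ++ (minusOne.reverse ++ [11]))) = true := by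
  decide +kernel

theorem rk_red : reduces adjB 12 rkMoves (powWord (rootEight ++ [11]) 3) = true := by decide +kernel

theorem zsq_red : reduces adjB 12 zsqMoves (minusOne ++ minusOne) = true := by decide +kernel

theorem r7_red : reduces adjB 12 r7Moves
    (([11] ++ rootEight ++ [0, 11]) ++ rootSeven ++ ([11] ++ rootEight ++ [0, 11]).reverse ++
      rootX.reverse) = true := by decide +kernel

theorem root_rev : rootEight.reverse = rootEight := by decide +kernel

theorem root_sq : prodW gen rootEight * prodW gen rootEight = 1 := by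
  have h := prodW_rev rootEight
  rw [root_rev, eq_inv_iff_mul_eq_one] at h
  exact h

/-- The central involution of E8 is trivial and `l` is a reflection. -/
theorem ten_root : prodW gen minusOne = 1 ∧ gen 10 = prodW gen rootEight := by
  have h1 := reduces_prod cox seven_red
  have h2 := reduces_prod cox zk_red
  have h3 := reduces_prod cox rk_red
  have h4 := reduces_prod cox zsq_red
  simp only [prodW_append, prodW_cons, prodW_nil, mul_one, ← gen_ten, prodW_rev, prodW_powWord] at h1 h2 h3 h4
  set Z := prodW gen minusOne
  set R := prodW gen rootEight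
  have hR : R * R = 1 := root_sq
  have iZ : Z⁻¹ = Z := inv_eq_of_mul_eq_one_right h4
  have iR : R⁻¹ = R := inv_eq_of_mul_eq_one_right hR
  have hl : gen 10 = Z * R := by
    rw [mul_eq_one_iff_eq_inv.mp h1, mul_inv_rev, iZ, iR]
  have hZR : Commute Z R := by
    have h := gen_sq 10
    rw [hl] at h
    have := mul_eq_one_iff_eq_inv.mp h
    rw [mul_inv_rev, iZ, iR] at this
    exact this
  have hZK : Commute Z (gen 11) := by
    have h : Z * gen 11 * Z * gen 11 = 1 := by rw [← iZ] at h2 ⊢; simpa [mul_assoc, iZ] using h2
    have := mul_eq_one_iff_eq_inv.mp (show Z * gen 11 * (Z * gen 11) = 1 by simpa [mul_assoc] using h)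
    rw [mul_inv_rev, iZ, inv_eq_of_mul_eq_one_right (gen_sq 11)] at this
    exact this
  have hb := cox.braid 10 (by norm_num) 11 (by norm_num) rfl
  have hcube : (gen 10 * gen 11) ^ 3 = 1 := by
    calc (gen 10 * gen 11) ^ 3 = (gen 10 * gen 11 * gen 10) * (gen 11 * gen 10 * gen 11) := by
          simp only [pow_succ, pow_zero, one_mul, mul_assoc]
      _ = (gen 11 * gen 10 * gen 11) * (gen 11 * gen 10 * gen 11) := by rw [hb]
      _ = gen 11 * (gen 10 * ((gen 11 * gen 11) * (gen 10 * gen 11))) := by simp only [mul_assoc]
      _ = 1 := by rw [gen_sq, one_mul, ← mul_assoc (gen 10), gen_sq, one_mul, gen_sq]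
  rw [hl, mul_assoc, (hZR.mul_right hZK).mul_pow, h3, mul_one, pow_succ, pow_two, h4, one_mul] at hcube
  exact ⟨hcube, by rw [hl, hcube, one_mul]⟩

/-- The reflection in the highest root of E7 fixes the third coset. -/
theorem root_stab : ∃ η : List ℕ, (∀ g ∈ η, g < 11) ∧
    prodW gen ([11, 10, 0, 11] ++ rootSeven) = prodW gen (η ++ [11, 10, 0, 11]) := by
  refine ⟨rootX, (by decide +kernel), ?_⟩
  have h := reduces_prod cox r7_red
  simp only [prodW_append, prodW_cons, prodW_nil, mul_one, prodW_rev, ← ten_root.2] at h
  rw [mul_inv_eq_one] at h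
  simp only [prodW_append, prodW_cons, prodW_nil, mul_one]
  rw [← h]
  simp [mul_assoc]

end CfsgLib.Fi24Pres
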