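import Cfsg.Agent.Lib.Fi24Pres.Coset
import Cfsg.Agent.Lib.Fi24Pres.E8
import Cfsg.Agent.Lib.Fi24Pres.ChkPointA

/-!
Words fixing the point of `a` stabilise the third coset.
-/

set_option autoImplicit false

namespace CfsgLib.Fi24Pres

open CfsgLib.CosetEnum Cfsg.Spor

/-- the elements stabilising the third coset -/
noncomputable def subTwo : Subgroup Fi24 :=
  subH.comap (MulAut.conj (prodW gen (stW 2))).toMonoidHom

theorem mem_subTwo {x : Fi24} :
    x ∈ subTwo ↔ prodW gen (stW 2) * x * (prodW gen (stW 2))⁻¹ ∈ subH := Iff.rfl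

theorem ten_red : Fi23Mult.reduces adjB 12 [[14, 5, 8, 13, 16, 2, 8, 4, 0]]
    (stW 2 ++ [10] ++ ([0] ++ stW 2).reverse) = true := by decide +kernel

theorem ten_two : gen 10 ∈ subTwo := by
  have h := Fi23Mult.reduces_prod cox ten_red
  rw [prodW_append, prodW_rev, prodW_append, prodW_append, mul_inv_eq_one] at h
  simp only [prodW_cons, prodW_nil, mul_one] at h
  rw [mem_subTwo, h, mul_inv_cancel_right]
  exact Subgroup.subset_closure ⟨0, by norm_num, rfl⟩

theorem small_two {g : ℕ} (h2 : 2 ≤ g) (h10 : g < 10) : gen g ∈ subTwo := by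
  have hadj : ∀ g < 10, 2 ≤ g → ∀ x ∈ stW 2, adjB g x = false := by decide +kernel
  have hc : Commute (gen g) (prodW gen (stW 2)) := Fi24Spider.commute_word fun x hx =>
    cox.comm g (by omega) x (by
      have : ∀ x ∈ stW 2, x < 12 := by decide +kernel
      exact this x hx) (hadj g h10 h2 x hx)
  rw [mem_subTwo, ← hc.eq, mul_inv_cancel_right]
  exact Subgroup.subset_closure ⟨g, by omega, rfl⟩

theorem root_two : prodW gen rootSeven ∈ subTwo := by
  obtain ⟨η, hη, h⟩ := root_stab
  rw [prodW_append, prodW_append] at h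
  rw [mem_subTwo, show prodW gen (stW 2) = prodW gen [11, 10, 0, 11] from rfl, h,
    mul_inv_cancel_right]
  exact word_mem hη

/-- their preimage in the cover -/
noncomputable def subTwoK : Subgroup K := subTwo.comap psiK

theorem letter_twoK {g : ℕ} (h2 : 2 ≤ g) (h10 : g < 10) : genK g ∈ subTwoK := by
  rw [subTwoK, Subgroup.mem_comap, psiK_genK (show g < 11 by omega)]
  exact small_two h2 h10

theorem root_twoK : prodW genK rootSeven ∈ subTwoK := by
  rw [subTwoK, Subgroup.mem_comap, psiK_word (by decide +kernel)]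
  exact root_two

theorem cut_twoK : ∀ {n : ℕ} {w : List ℕ}, cutOK n w = true → prodW genK w ∈ subTwoK
  | _, [], _ => by simp
  | 0, g :: w, h => by simp [cutOK] at h
  | n + 1, g :: w, h => by
    rw [cutOK] at h
    split at h
    · rename_i e
      rw [← List.take_append_drop rootSeven.length (g :: w), prodW_append, eq_of_beq e]
      exact mul_mem root_twoK (cut_twoK h)
    · simp only [Bool.and_eq_true, Nat.ble_eq, Nat.blt_eq] at h
      rw [prodW_cons]
      exact mul_mem (letter_twoK h.1.1 h.1.2) (cut_twoK h.2)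

/-- the point of `a` -/
noncomputable def ptA : Fin Fi23Pres.certA.N :=
  ⟨pointA, show pointA < Fi23Pres.certA.N by decide +kernel⟩

/-- the elements of Fi23 fixing the point -/
noncomputable def fixA : Subgroup Fi23 :=
  (MulAction.stabilizer (Equiv.Perm (Fin Fi23Pres.certA.N)) ptA).comap Fi23Pres.rho

theorem mem_fixA {y : Fi23} : y ∈ fixA ↔ Fi23Pres.rho y ptA = ptA := Iff.rfl

theorem card_fixA : Nat.card fixA = 129123503308800 := by
  classical
  obtain ⟨x, hx⟩ := Fi23Pres.setupA.pretransitive ptA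
  have e : fixA = Fi23Pres.subA.map (MulAut.conj x).toMonoidHom := by
    ext y
    simp only [mem_fixA, Subgroup.mem_map, MulEquiv.coe_toMonoidHom, MulAut.conj_apply]
    constructor
    · intro h
      refine ⟨x⁻¹ * y * x, (Fi23Pres.setupA.mem_iff _).mpr ?_, by group⟩
      rw [map_mul, map_mul, map_inv, Equiv.Perm.mul_apply, Equiv.Perm.mul_apply, hx, h,
        Equiv.Perm.inv_eq_iff_eq, hx]
    · rintro ⟨z, hz, rfl⟩
      have hz' := (Fi23Pres.setupA.mem_iff z).mp hz
      rw [map_mul, map_mul, map_inv, Equiv.Perm.mul_apply, Equiv.Perm.mul_apply,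
        show (Fi23Pres.rho x)⁻¹ ptA = Fi23Pres.setupA.base by
          rw [Equiv.Perm.inv_eq_iff_eq, hx], hz', hx]
  rw [e, Subgroup.card_map_of_injective (MulEquiv.injective (MulAut.conj x))]
  have h := Fi23Pres.subA.card_mul_index
  rw [Fi23Pres.card_faithful.1, Fi23Pres.setupA.index_eq,
    show Fi23Pres.certA.N = 31671 from rfl] at h
  refine Nat.eq_of_mul_eq_mul_right (show 0 < 31671 by norm_num) (h.trans ?_)
  norm_num

theorem revInv_eq_reverse {w : List ℕ} (hw : ∀ g ∈ w, g < 10) :
    Fi23Pres.certA.revInv w = w.reverse := by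
  have h := inv_self
  simp only [List.all_eq_true, List.mem_range] at h
  simp only [Cert.revInv]
  congr 1
  exact (List.map_congr_left fun g hg => Nat.eq_of_beq_eq_true (h g (hw g hg))).trans (List.map_id' w)

theorem word_fixA {w : List ℕ} (hw : ∀ g ∈ w, g < 10)
    (h : Fi23Pres.certA.run pointA w.reverse = pointA) : prodW Fi23Pres.gen w ∈ fixA := by
  rw [mem_fixA]
  refine Fin.ext ?_
  rw [Fi23Pres.setupA.rho_prodW hw, revInv_eq_reverse hw]
  exact h

theorem fst_prodW (w : List ℕ) : (prodW genK w).1 = prodW Fi23Pres.gen w := by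
  rw [← MonoidHom.coe_fst, map_prodW]
  rfl

/-- A subgroup containing the chain words contains the stabiliser of the point. -/
theorem fixA_le_of {S : Subgroup Fi23}
    (hS : ∀ w ∈ chainWords levelsA, prodW Fi23Pres.gen w ∈ S) : fixA ≤ S := by
  classical
  have hle : chainGroup Fi23Pres.setupA.complete Fi23Pres.setupA.action levelsA ≤
      (S ⊓ fixA).map Fi23Pres.rho := by
    refine (Subgroup.closure_le _).mpr ?_
    rintro y ⟨w, hw, rfl⟩
    have hlt : ∀ g ∈ w, g < 10 := fun g hg => chainWords_lt levelsA_ok w hw g hg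
    have h := levelsA_cut
    simp only [List.all_eq_true, Bool.and_eq_true] at h
    obtain ⟨-, hf⟩ := h w hw
    refine ⟨prodW Fi23Pres.gen w, ⟨hS w hw, word_fixA hlt (Nat.eq_of_beq_eq_true hf)⟩, ?_⟩
    rw [map_prodW]
    exact prodW_congr fun g hg => Fi23Pres.setupA.rho_gen g (chainWords_lt levelsA_ok w hw g hg)
  have h1 := ((chainSize_le Fi23Pres.setupA.complete Fi23Pres.setupA.action levelsA_ok).trans
    (Subgroup.card_le_of_le hle)).trans
    (Nat.card_le_card_of_surjective _ (Fi23Pres.rho.subgroupMap_surjective (S ⊓ fixA)))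
  rw [levelsA_size, ← card_fixA] at h1
  have h2 : S ⊓ fixA = fixA := Subgroup.eq_of_le_of_card_ge inf_le_right h1
  exact h2 ▸ inf_le_left

theorem fixA_le : fixA ≤ subTwoK.map (MonoidHom.fst Fi23 (Multiplicative (ZMod 2))) := by
  refine fixA_le_of fun w hw => ?_
  have h := levelsA_cut
  simp only [List.all_eq_true, Bool.and_eq_true] at h
  exact ⟨prodW genK w, cut_twoK (h w hw).1, fst_prodW w⟩

theorem ten_fst : Fi23Pres.gen 10 = 1 := by
  unfold Fi23Pres.gen presGen
  exact genOf_of_ge (show Fi23Pres.letters.length ≤ 10 by decide)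

/-- The elements fixing the point of `a` stabilise the third coset. -/
theorem mem_twoK_of_fix {x : K} (h : x.1 ∈ fixA) : x ∈ subTwoK := by
  obtain ⟨⟨y, e⟩, hye, hy⟩ := fixA_le h
  obtain ⟨x1, e'⟩ := x
  obtain rfl : y = x1 := hy
  have hten : genK 10 ∈ subTwoK := by
    rw [subTwoK, Subgroup.mem_comap, psiK_genK (by norm_num)]
    exact ten_two
  have hcases : ∀ e : Multiplicative (ZMod 2), e = 1 ∨ e = Multiplicative.ofAdd 1 := by decide
  by_cases hee : e' = e
  · exact hee ▸ hye
  · have he : e' = e * Multiplicative.ofAdd 1 := by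
      rcases hcases e with rfl | rfl <;> rcases hcases e' with rfl | rfl <;>
        first | rfl | exact absurd rfl hee
    have := mul_mem hye hten
    rw [genK, ten_fst, Prod.mk_mul_mk, mul_one, ← he] at this
    exact this

/-- Words fixing the point of `a` stabilise the third coset. -/
theorem point_stab {w : List ℕ} (hw : ∀ g ∈ w, g < 11)
    (h : Fi23Pres.certA.run pointA (strip w) = pointA) : Sm (stW 2 ++ w) (stW 2) := by
  have hlt : ∀ g ∈ (strip w).reverse, g < 10 := fun g hg =>
    strip_lt w g (List.mem_reverse.mp hg)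
  have hy : prodW Fi23Pres.gen (strip w).reverse ∈ fixA :=
    word_fixA hlt (by rw [List.reverse_reverse]; exact h)
  have hrev : prodW Fi23Pres.gen (strip w).reverse = (prodW Fi23Pres.gen (strip w))⁻¹ := by
    rw [← revInv_eq_reverse (fun g hg => strip_lt w g hg), Fi23Pres.setupA.model.revInv_eq]
  rw [hrev, inv_mem_iff] at hy
  have hmem : prodW genK w ∈ subTwoK := mem_twoK_of_fix (by rw [prodW_genK]; exact hy)
  rw [subTwoK, Subgroup.mem_comap, psiK_word hw, mem_subTwo] at hmem
  simpa [Sm, prodW_append] using hmem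

theorem stabGood {trs : List (List ℕ)} (hlt : ∀ w ∈ trs, ∀ g ∈ w, g < 11)
    (h1 : ∀ w ∈ trs, Sm ([11] ++ w) [11]) : StabGood trs :=
  ⟨hlt, h1, fun _ => point_stab⟩

end CfsgLib.Fi24Pres
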