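import Cfsg.Agent.Lib.Fi24Pres.Defs
import Cfsg.Agent.Lib.Fi24Spider.Spider
import Cfsg.Agent.Lib.Fi23Mult.Moves

/-!
The subgroup of Fi24 on the letters `a … j, l` is an image of `Fi23 × 2`.
-/

set_option autoImplicit false

namespace CfsgLib.Fi24Pres

open CfsgLib.CosetEnum Cfsg.Spor

/-- the long relator as a word -/
def zWord24 : List ℕ := powWord [3, 2, 1, 0, 11, 10, 3, 4, 5, 6, 9, 3, 7, 8] 17

/-- the word of the centre of the diagram of type E7 -/
def sevenW : List ℕ := powWord [0, 1, 2, 3, 4, 5, 7] 9

theorem nodes : ∀ x, x ∈ coxNodes Fi24.edges := by intro x; cases x <;> decide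

theorem mem_letters : ∀ x, x ∈ letters := by intro x; cases x <;> decide

theorem gen_sq (g : ℕ) : gen g * gen g = 1 := by
  unfold gen presGen genOf
  split
  · exact of_sq (nodes _)
  · simp

theorem gen_pair {p q : ℕ} (hp : p < 12) (hq : q < 12) :
    (gen p * gen q) ^ coxLabel Fi24.edges (letters.getD p .l) (letters.getD q .l) = 1 := by
  have hp' : p < letters.length := hp
  have hq' : q < letters.length := hq
  rw [gen, presGen, genOf_of_lt hp', genOf_of_lt hq', List.getD_eq_getElem _ _ hp',
    List.getD_eq_getElem _ _ hq']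
  exact of_pair (nodes _) (nodes _)

theorem labels : ∀ p < 12, ∀ q < 12,
    coxLabel Fi24.edges (letters.getD p .l) (letters.getD q .l) =
      if p = q then 1 else if adjB p q then 3 else 2 := by decide +kernel

theorem cox : Fi23Mult.CoxLifts adjB 12 gen where
  sq a _ := gen_sq a
  comm a ha b hb h := by
    by_cases e : a = b
    · rw [e]
    · have h1 := gen_pair ha hb
      rw [labels a ha b hb, if_neg e, h] at h1
      exact Fi24Spider.commute_of_sq (gen_sq a) (gen_sq b) (by simpa using h1)
  braid a ha b hb h := by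
    have hne : a ≠ b := by
      rintro rfl
      exact absurd h (by revert ha; revert a; decide +kernel)
    have h1 := gen_pair ha hb
    rw [labels a ha b hb, if_neg hne, h] at h1
    exact Fi24Spider.braid_of_cube (gen_sq a) (gen_sq b) (by simpa using h1)

theorem extraWords24 : ExtraWords letters Fi24.extra [10 :: sevenW.reverse, zWord24] := by
  unfold ExtraWords Fi24.extra
  refine .cons ?_ (.cons ?_ .nil)
  · intro P _ f hf
    have hrev : ∀ w : List ℕ, prodW (genOf letters f) w.reverse = (prodW (genOf letters f) w)⁻¹ := by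
      intro w
      induction w with
      | nil => simp
      | cons g w ih =>
        rw [List.reverse_cons, prodW_append, ih, prodW_cons, prodW_cons, prodW_nil, mul_one, mul_inv_rev,
          prodW_self_inv (fun g => by unfold genOf; split <;> simp [hf]) g]
    rw [prodW_cons, hrev, sevenW, prodW_powWord, map_mul, map_inv, map_pow]
    simp [prodW, genOf, letters, Fi24.l, Fi24.a, Fi24.b, Fi24.c, Fi24.d, Fi24.e, Fi24.f, Fi24.h, mul_assoc]
  · intro P _ f _
    rw [map_pow, zWord24, prodW_powWord]
    simp [prodW, genOf, letters, Fi24.l, Fi24.k, Fi24.a, Fi24.b, Fi24.c, Fi24.d, Fi24.e, Fi24.f, Fi24.g,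
      Fi24.j, Fi24.h, Fi24.i, mul_assoc]

theorem extra_one (k : ℕ) (hk : k < 2) :
    prodW gen ([10 :: sevenW.reverse, zWord24].getD k []) = 1 := by
  have hlen : Fi24.extra.length = 2 := rfl
  have h := (List.forall₂_iff_get.mp extraWords24).2 k (by omega) (by simpa using hk)
  simp only [List.get_eq_getElem] at h
  have h3 := h Fi24 (fun x => PresentedGroup.of x) (fun x => of_sq (nodes x))
  rw [List.getD_eq_getElem _ _ (by simpa using hk), gen, presGen, ← h3]
  have h4 : PresentedGroup.mk (coxRelators Fi24.edges ∪ {r | r ∈ Fi24.extra}) (Fi24.extra[k]'(by omega)) = 1 :=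
    PresentedGroup.one_of_mem (Or.inr (List.getElem_mem _))
  refine Eq.trans ?_ h4
  refine DFunLike.congr_fun (FreeGroup.ext_hom _ _ fun x => ?_) _
  simp
  rfl

theorem prodW_rev (w : List ℕ) : prodW gen w.reverse = (prodW gen w)⁻¹ := by
  induction w with
  | nil => simp
  | cons g w ih =>
    rw [List.reverse_cons, prodW_append, ih, prodW_cons, prodW_cons, prodW_nil, mul_one, mul_inv_rev,
      prodW_self_inv gen_sq g]

/-- The letter `l` is the centre of the subdiagram of type E7. -/
theorem gen_ten : gen 10 = prodW gen sevenW := by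
  have h := extra_one 0 (by norm_num)
  rw [List.getD_cons_zero, prodW_cons, prodW_rev, mul_inv_eq_one] at h
  exact h

/-- The long relator. -/
theorem z_one : prodW gen zWord24 = 1 := extra_one 1 (by norm_num)

theorem ten_comm {g : ℕ} (hg : g < 11) : Commute (gen g) (gen 10) := by
  have h : ∀ g < 11, adjB g 10 = false := by decide +kernel
  exact cox.comm g (by omega) 10 (by norm_num) (h g hg)

/-- the letters below ten -/
def strip (w : List ℕ) : List ℕ := w.filter fun g => Nat.blt g 10

theorem strip_lt (w : List ℕ) : ∀ g ∈ strip w, g < Fi23Pres.certA.K := by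
  intro g hg
  simp only [strip, List.mem_filter, Nat.blt_eq] at hg
  exact hg.2

/-- the cover -/
abbrev K : Type := Fi23 × Multiplicative (ZMod 2)

/-- the letters in the cover -/
def genK (g : ℕ) : K := (Fi23Pres.gen g, Multiplicative.ofAdd 1)

theorem prodW_genK (w : List ℕ) :
    prodW genK w = (prodW Fi23Pres.gen (strip w), Multiplicative.ofAdd (w.length : ZMod 2)) := by
  induction w with
  | nil => simp [strip]; rfl
  | cons g w ih =>
    rw [prodW_cons, ih, genK, Prod.mk_mul_mk, ← ofAdd_add, List.length_cons]
    push_cast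
    rw [add_comm]
    congr 1
    by_cases hg : g < 10
    · simp [strip, hg]
    · have : Fi23Pres.gen g = 1 := genOf_of_ge (show Fi23Pres.letters.length ≤ g by
        simp [Fi23Pres.letters]; omega)
      simp [strip, hg, this]

/-- equality of two words in the cover -/
noncomputable def eqK (u w : List ℕ) : Bool :=
  sameBases Fi23Pres.certA Fi23Pres.levels (strip u) (strip w) && Nat.beq (u.length % 2) (w.length % 2)

theorem eqK_spec {u w : List ℕ} (h : eqK u w = true) : prodW genK u = prodW genK w := by
  simp only [eqK, Bool.and_eq_true] at h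
  rw [prodW_genK, prodW_genK, Fi23Pres.setupA.eq_of_bases Fi23Pres.chain_ok
    (Fi23Pres.chain_size.trans Fi23Pres.card_faithful.1.symm) (strip_lt u) (strip_lt w) h.1,
    (ZMod.natCast_eq_natCast_iff' _ _ 2).mpr (Nat.eq_of_beq_eq_true h.2)]

theorem exists_phi : ∃ Φ : Fi23 →* Fi24, ∀ g < 10, Φ (Fi23Pres.gen g) = gen g * gen 10 := by
  set f : ℕ → Fi24 := fun g => gen g * gen 10
  have hw : ∀ w : List ℕ, (∀ g ∈ w, g < 10) → prodW f w = prodW gen w * gen 10 ^ w.length := by
    intro w hw
    induction w with
    | nil => simp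
    | cons g w ih =>
      rw [List.forall_mem_cons] at hw
      have hc : Commute (gen 10) (prodW gen w) := Fi24Spider.commute_word fun x hx =>
        (ten_comm (show x < 11 by have := hw.2 x hx; omega)).symm
      rw [prodW_cons, ih hw.2, prodW_cons, List.length_cons, pow_succ', mul_assoc, mul_assoc,
        ← mul_assoc (gen 10), hc.eq, mul_assoc]
  have hpair : ∀ p < 10, ∀ q < 10, (f p * f q) ^ M23.lab p q = 1 := by
    intro p hp q hq
    have hlab : ∀ p < 10, ∀ q < 10, M23.lab p q =
        coxLabel Fi24.edges (letters.getD p .l) (letters.getD q .l) := by decide +kernel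
    rw [show f p * f q = gen p * gen q by
      simp only [f]
      rw [mul_assoc, ← mul_assoc (gen 10), ← (ten_comm (show q < 11 by omega)).eq, mul_assoc (gen q),
        gen_sq, mul_one]]
    rw [hlab p hp q hq]
    exact gen_pair (by omega) (by omega)
  have hA : prodW f M23.wordA = 1 := by
    rw [hw _ (by decide +kernel), show M23.wordA = sevenW from rfl, ← gen_ten,
      show sevenW.length = 2 * 31 + 1 by decide +kernel, pow_succ, pow_mul, pow_two, gen_sq, one_pow,
      one_mul, gen_sq]
  obtain ⟨ψ, hψ⟩ := Fi24Spider.exists_lift3 f hpair hA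
  have hS : prodW f M23.wordS = 1 := by
    rw [← prodW_congr (gen := fun g => ψ (Fi24Spider.gen3 g)) (fun g hg => hψ g (by
      have : ∀ g ∈ M23.wordS, g < 10 := by decide +kernel
      exact this g hg)), ← map_prodW, Fi24Spider.spider3, map_one]
  exact M23.exists_hom f hpair hS hA

/-- the map from Fi23 -/
noncomputable def phi : Fi23 →* Fi24 := exists_phi.choose

/-- the map of the factor of order two -/
noncomputable def theta : Multiplicative (ZMod 2) →* Fi24 where
  toFun x := gen 10 ^ (Multiplicative.toAdd x).val
  map_one' := by simp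
  map_mul' x y := by
    rw [← pow_add, toAdd_mul]
    refine pow_eq_pow_of_modEq ?_ (n := 2) (by rw [pow_two, gen_sq])
    rw [ZMod.val_add]
    exact Nat.mod_modEq _ _

theorem theta_comm (y : Fi23) (e : Multiplicative (ZMod 2)) : Commute (phi y) (theta e) := by
  have hy : y ∈ Subgroup.closure {x | ∃ g < Fi23Pres.certA.K, Fi23Pres.gen g = x} := by
    rw [Fi23Pres.setupA.gen_top]; trivial
  have key : Commute (phi y) (gen 10) := by
    induction hy using Subgroup.closure_induction with
    | mem x hx =>
      obtain ⟨g, hg, rfl⟩ := hx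
      rw [phi, exists_phi.choose_spec g hg]
      exact (ten_comm (show g < 11 by have hK : Fi23Pres.certA.K = 10 := rfl; omega)).mul_left (Commute.refl _)
    | one => rw [map_one]; exact Commute.one_left _
    | mul a b _ _ ha hb => rw [map_mul]; exact ha.mul_left hb
    | inv a _ ha => rw [map_inv]; exact ha.inv_left
  exact key.pow_right _

/-- the map of the cover -/
noncomputable def psiK : K →* Fi24 := MonoidHom.noncommCoprod phi theta theta_comm

theorem psiK_genK {g : ℕ} (hg : g < 11) : psiK (genK g) = gen g := by
  show phi (Fi23Pres.gen g) * theta (Multiplicative.ofAdd 1) = gen g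
  have ht : theta (Multiplicative.ofAdd 1) = gen 10 := by
    show gen 10 ^ (1 : ZMod 2).val = gen 10
    rw [ZMod.val_one, pow_one]
  rw [ht]
  by_cases h : g < 10
  · rw [phi, exists_phi.choose_spec g h, mul_assoc, gen_sq, mul_one]
  · obtain rfl : g = 10 := by omega
    have h10 : Fi23Pres.gen 10 = 1 := by
      unfold Fi23Pres.gen presGen
      exact genOf_of_ge (show Fi23Pres.letters.length ≤ 10 by decide)
    rw [h10, map_one, one_mul]

theorem psiK_word {w : List ℕ} (hw : ∀ g ∈ w, g < 11) : psiK (prodW genK w) = prodW gen w := by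
  rw [map_prodW]
  exact prodW_congr fun g hg => psiK_genK (hw g hg)

/-- words equal in the cover are equal in Fi24 -/
theorem eq_of_eqK {u w : List ℕ} (hu : ∀ g ∈ u, g < 11) (hw : ∀ g ∈ w, g < 11)
    (h : eqK u w = true) : prodW gen u = prodW gen w := by
  rw [← psiK_word hu, ← psiK_word hw, eqK_spec h]

end CfsgLib.Fi24Pres
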